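/-
The completed tensor product of a complete local algebra with an extension field, as a finite algebra over power series.
-/
import Mathlib
import Groth.Agent.AdicLim.Noetherian
import Groth.Agent.ArtPow.Basic
import Groth.Agent.ArtObs.Models
import Groth.Agent.S0581
import Groth.Agent.EGA418Dim.ResidueFinite

set_option autoImplicit false
universe u

namespace Groth.Agent.EGA418Base

open IsLocalRing TensorProduct

/-- Completeness passes between equivalent ideals. -/
theorem isAdicComplete_of_pow_le {R : Type u} [CommRing R] {I J : Ideal R} {M : Type u} [AddCommGroup M] [Module R M]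
    {c : ℕ} (hc : 0 < c) (hJI : J ^ c ≤ I) (hIJ : I ≤ J) [IsAdicComplete I M] : IsAdicComplete J M := by
  have hle : ∀ n, (J ^ (c * n) • ⊤ : Submodule R M) ≤ I ^ n • ⊤ := fun n =>
    Submodule.smul_mono (by rw [pow_mul]; exact Ideal.pow_right_mono hJI n) le_rfl
  have hle' : ∀ n, (I ^ n • ⊤ : Submodule R M) ≤ J ^ n • ⊤ := fun n =>
    Submodule.smul_mono (Ideal.pow_right_mono hIJ n) le_rfl
  exact
    { haus' := fun x hx => IsHausdorff.haus' (I := I) x fun n => by
        have := hx (c * n)
        rw [SModEq.sub_mem] at this ⊢
        exact hle n this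
      prec' := fun f hf => by
        obtain ⟨L, hL⟩ := IsPrecomplete.prec (I := I) inferInstance (f := fun n => f (c * n)) fun {m n} hmn => by
          have := hf (show c * m ≤ c * n from Nat.mul_le_mul_left c hmn)
          rw [SModEq.sub_mem] at this ⊢
          exact hle m this
        refine ⟨L, fun n => ?_⟩
        have h1 := hL n
        have h2 := hf (show n ≤ c * n from Nat.le_mul_of_pos_left n hc)
        rw [SModEq.sub_mem] at h1 h2 ⊢
        have := add_mem h2 (hle' n h1)
        rwa [sub_add_sub_cancel] at this }

/-- Ideals over the maximal ideal of a power series ring are generated by the images of the variables. -/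
theorem map_maximalIdeal_powerSeries {k : Type u} [Field k] {r : ℕ} {X : Type u} [CommRing X]
    (f : MvPowerSeries (Fin r) k →+* X) :
    (maximalIdeal (MvPowerSeries (Fin r) k)).map f = Ideal.span (Set.range fun i => f (MvPowerSeries.X i)) := by
  rw [← ArtPow.span_X_eq_maximalIdeal, Ideal.map_span, ← Set.range_comp]
  rfl

variable (k k' : Type u) [Field k] [Field k'] [Algebra k k'] (r : ℕ) (A : Type u) [CommRing A] [IsLocalRing A]
  [IsNoetherianRing A] [Algebra k A] [Algebra (MvPowerSeries (Fin r) k) A]
  [IsScalarTower k (MvPowerSeries (Fin r) k) A] [Module.Finite (MvPowerSeries (Fin r) k) A]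

/-- The model of the completed tensor product. -/
abbrev Model : Type u := A ⊗[MvPowerSeries (Fin r) k] MvPowerSeries (Fin r) k'

omit [IsLocalRing A] [IsNoetherianRing A] [IsScalarTower k (MvPowerSeries (Fin r) k) A] [Algebra k A]
  [Module.Finite (MvPowerSeries (Fin r) k) A] in
theorem span_range_le (i : Fin r) :
    Algebra.TensorProduct.includeRight (R := MvPowerSeries (Fin r) k) (A := A) (MvPowerSeries.X i : MvPowerSeries (Fin r) k') =
      algebraMap A (Model k k' r A) (algebraMap (MvPowerSeries (Fin r) k) A (MvPowerSeries.X i)) := by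
  rw [show (MvPowerSeries.X i : MvPowerSeries (Fin r) k') =
    algebraMap (MvPowerSeries (Fin r) k) (MvPowerSeries (Fin r) k') (MvPowerSeries.X i) from
      (MvPowerSeries.map_X _ i).symm, AlgHom.commutes, IsScalarTower.algebraMap_apply (MvPowerSeries (Fin r) k) A]

omit [IsScalarTower k (MvPowerSeries (Fin r) k) A] [Algebra k A] in
theorem exists_pow_le_span :
    ∃ c, 0 < c ∧ maximalIdeal A ^ c ≤ (maximalIdeal (MvPowerSeries (Fin r) k)).map (algebraMap _ A) := by
  have h : maximalIdeal A ≤ ((maximalIdeal (MvPowerSeries (Fin r) k)).map (algebraMap _ A)).radical := by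
    rw [Ideal.radical_eq_sInf]
    refine le_sInf fun Q hQ => ?_
    haveI := hQ.2
    haveI : Q.IsMaximal := Ideal.isMaximal_of_isIntegral_of_isMaximal_comap (R := MvPowerSeries (Fin r) k) Q (by
      have h1 : maximalIdeal (MvPowerSeries (Fin r) k) ≤ Q.comap (algebraMap _ A) := Ideal.map_le_iff_le_comap.mp hQ.1
      rw [← (maximalIdeal.isMaximal _).eq_of_le (Ideal.IsPrime.comap (algebraMap _ A)).ne_top h1]
      exact maximalIdeal.isMaximal _)
    rw [IsLocalRing.eq_maximalIdeal this]
  obtain ⟨c, hc⟩ := Ideal.exists_pow_le_of_le_radical_of_fg h (IsNoetherian.noetherian _)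
  exact ⟨c + 1, c.succ_pos, (Ideal.pow_le_pow_right c.le_succ).trans hc⟩

omit [IsLocalRing A] [IsNoetherianRing A] [IsScalarTower k (MvPowerSeries (Fin r) k) A] [Algebra k A] in
theorem module_finite_model :
    letI : Algebra (MvPowerSeries (Fin r) k') (Model k k' r A) := Algebra.TensorProduct.rightAlgebra
    Module.Finite (MvPowerSeries (Fin r) k') (Model k k' r A) := by
  letI : Algebra (MvPowerSeries (Fin r) k') (Model k k' r A) := Algebra.TensorProduct.rightAlgebra
  refine Module.Finite.of_surjective
    (M := MvPowerSeries (Fin r) k' ⊗[MvPowerSeries (Fin r) k] A)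
    { toFun := TensorProduct.comm (MvPowerSeries (Fin r) k) (MvPowerSeries (Fin r) k') A
      map_add' := map_add _
      map_smul' := fun c z => by
        induction z using TensorProduct.induction_on with
        | zero => simp
        | add x y hx hy => simp only [smul_add, map_add, hx, hy, RingHom.id_apply] at *
        | tmul x a =>
          rw [RingHom.id_apply, TensorProduct.smul_tmul', TensorProduct.comm_tmul, TensorProduct.comm_tmul,
            Algebra.smul_def (A := Model k k' r A)]
          show a ⊗ₜ (c * x) = ((1 : A) ⊗ₜ c) * (a ⊗ₜ x)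
          rw [Algebra.TensorProduct.tmul_mul_tmul, one_mul] }
    (TensorProduct.comm _ _ _).surjective

omit [IsLocalRing A] [IsNoetherianRing A] [IsScalarTower k (MvPowerSeries (Fin r) k) A] [Algebra k A] in
theorem finite_model : RingHom.Finite (Algebra.TensorProduct.includeRight :
    MvPowerSeries (Fin r) k' →ₐ[MvPowerSeries (Fin r) k] Model k k' r A).toRingHom := by
  letI : Algebra (MvPowerSeries (Fin r) k') (Model k k' r A) := Algebra.TensorProduct.rightAlgebra
  haveI : Module.Finite (MvPowerSeries (Fin r) k') (Model k k' r A) := module_finite_model k k' r A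
  exact RingHom.finite_algebraMap.mpr this

omit [IsLocalRing A] [IsNoetherianRing A] [IsScalarTower k (MvPowerSeries (Fin r) k) A] [Algebra k A] in
theorem isNoetherianRing_model : IsNoetherianRing (Model k k' r A) := by
  letI : Algebra (MvPowerSeries (Fin r) k') (Model k k' r A) := Algebra.TensorProduct.rightAlgebra
  haveI : Module.Finite (MvPowerSeries (Fin r) k') (Model k k' r A) := module_finite_model k k' r A
  exact IsNoetherianRing.of_finite (MvPowerSeries (Fin r) k') _

omit [IsScalarTower k (MvPowerSeries (Fin r) k) A] [Algebra k A] in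
theorem isAdicComplete_model :
    IsAdicComplete ((maximalIdeal A).map (algebraMap A (Model k k' r A))) (Model k k' r A) := by
  let P := MvPowerSeries (Fin r) k
  let P' := MvPowerSeries (Fin r) k'
  let X := Model k k' r A
  letI : Algebra P' X := Algebra.TensorProduct.rightAlgebra
  haveI : Module.Finite P' X := module_finite_model k k' r A
  haveI := Cohen.isRegularLocalRing_mvPowerSeries k' r
  haveI : IsAdicComplete (maximalIdeal P') P' := ArtObs.isAdicComplete_ps k' r
  haveI : IsAdicComplete (maximalIdeal P') X := AdicLim.isAdicComplete_of_finite _ X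
  let K := (maximalIdeal P').map (algebraMap P' X)
  haveI : IsAdicComplete K X := (IsAdicComplete.map_algebraMap_iff _ _).2 inferInstance
  have hK : K = ((maximalIdeal P).map (algebraMap P A)).map (algebraMap A X) := by
    show (maximalIdeal P').map (algebraMap P' X) = _
    rw [map_maximalIdeal_powerSeries, map_maximalIdeal_powerSeries, Ideal.map_span, ← Set.range_comp]
    congr 1
    exact congrArg Set.range (funext fun i => span_range_le k k' r A i)
  obtain ⟨c, hc0, hc⟩ := exists_pow_le_span k r A
  refine isAdicComplete_of_pow_le (I := K) hc0 ?_ ?_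
  · rw [hK, ← Ideal.map_pow]
    exact Ideal.map_mono hc
  · rw [hK]
    refine Ideal.map_mono (Ideal.map_le_iff_le_comap.mpr ?_)
    rw [IsLocalRing.eq_maximalIdeal (Ideal.isMaximal_comap_of_isIntegral_of_isMaximal (R := P) (maximalIdeal A))]

end Groth.Agent.EGA418Base
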