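/-
The completed tensor product is isomorphic to its model.
-/
import Mathlib
import Groth.Agent.EGA418Base.Model

set_option autoImplicit false
universe u

namespace Groth.Agent.EGA418Base

open IsLocalRing TensorProduct

variable (k k' : Type u) [Field k] [Field k'] [Algebra k k'] (r : ℕ) (A : Type u) [CommRing A] [IsLocalRing A]
  [IsNoetherianRing A] [Algebra k A] [Algebra (MvPowerSeries (Fin r) k) A]
  [IsScalarTower k (MvPowerSeries (Fin r) k) A] [Module.Finite (MvPowerSeries (Fin r) k) A]

omit [CommRing A] [IsLocalRing A] [IsNoetherianRing A] [Algebra k A] in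
theorem isScalarTower_powerSeries : IsScalarTower k (MvPowerSeries (Fin r) k) (MvPowerSeries (Fin r) k') :=
  IsScalarTower.of_algebraMap_eq fun c => by
    show _ = MvPowerSeries.map (algebraMap k k') (algebraMap k (MvPowerSeries (Fin r) k) c)
    rw [MvPowerSeries.algebraMap_apply, MvPowerSeries.algebraMap_apply, MvPowerSeries.map_C,
      Algebra.algebraMap_self, RingHom.id_apply]

attribute [local instance] isScalarTower_powerSeries

/-- The canonical map from the tensor product. -/
noncomputable def toModel : A ⊗[k] k' →ₐ[A] Model k k' r A :=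
  Algebra.TensorProduct.lift (Algebra.ofId A (Model k k' r A))
    (((Algebra.TensorProduct.includeRight : MvPowerSeries (Fin r) k' →ₐ[MvPowerSeries (Fin r) k] Model k k' r A).restrictScalars k).comp
      (IsScalarTower.toAlgHom k k' (MvPowerSeries (Fin r) k')))
    fun _ _ => Commute.all _ _

omit [IsLocalRing A] [IsNoetherianRing A] [Module.Finite (MvPowerSeries (Fin r) k) A] in
theorem toModel_tmul (a : A) (c : k') :
    toModel k k' r A (a ⊗ₜ[k] c) = a ⊗ₜ[MvPowerSeries (Fin r) k] (algebraMap k' (MvPowerSeries (Fin r) k') c) := by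
  rw [toModel, Algebra.TensorProduct.lift_tmul]
  show (a ⊗ₜ (1 : MvPowerSeries (Fin r) k')) * ((1 : A) ⊗ₜ _) = _
  rw [Algebra.TensorProduct.tmul_mul_tmul, mul_one, one_mul]
  rfl

/-- The maximal ideal extended to the tensor product. -/
noncomputable abbrev tIdeal : Ideal (A ⊗[k] k') := (maximalIdeal A).map (algebraMap A (A ⊗[k] k'))

/-- The maximal ideal extended to the model. -/
noncomputable abbrev mIdeal : Ideal (Model k k' r A) := (maximalIdeal A).map (algebraMap A (Model k k' r A))

omit [IsNoetherianRing A] [Module.Finite (MvPowerSeries (Fin r) k) A] in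
theorem map_tIdeal : (tIdeal k k' A).map (toModel k k' r A).toRingHom = mIdeal k k' r A := by
  rw [Ideal.map_map]
  congr 1
  exact (toModel k k' r A).comp_algebraMap

theorem map_pow_quotient {R : Type u} [CommRing R] (I : Ideal R) (n : ℕ) :
    (I.map (Ideal.Quotient.mk (I ^ n))) ^ n = ⊥ := by
  rw [← Ideal.map_pow, Ideal.map_quotient_self]

/-- The maps modulo powers. -/
noncomputable def toModelMod (n : ℕ) : (A ⊗[k] k') ⧸ tIdeal k k' A ^ n →+* Model k k' r A ⧸ mIdeal k k' r A ^ n :=
  Ideal.Quotient.lift _ ((Ideal.Quotient.mk _).comp (toModel k k' r A).toRingHom) fun z hz => by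
    rw [RingHom.comp_apply, Ideal.Quotient.eq_zero_iff_mem, ← map_tIdeal, ← Ideal.map_pow]
    exact Ideal.mem_map_of_mem _ hz

theorem bijective_toModelMod (n : ℕ) : Function.Bijective (toModelMod k k' r A n) := by
  let P := MvPowerSeries (Fin r) k
  let P' := MvPowerSeries (Fin r) k'
  let R := A ⊗[k] k'
  let Q := R ⧸ tIdeal k k' A ^ n
  let q : A →ₐ[k] Q := (Ideal.Quotient.mkₐ k _).comp (Algebra.TensorProduct.includeLeft : A →ₐ[k] R)
  let j : k' →+* Q := (Ideal.Quotient.mk _).comp (Algebra.TensorProduct.includeRight : k' →ₐ[k] R).toRingHom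
  letI : Algebra k' Q := j.toAlgebra
  haveI : IsScalarTower k k' Q := IsScalarTower.of_algebraMap_eq fun c => by
    show _ = j (algebraMap k k' c)
    rw [show j (algebraMap k k' c) = Ideal.Quotient.mk _ ((Algebra.TensorProduct.includeRight : k' →ₐ[k] R) (algebraMap k k' c)) from rfl,
      AlgHom.commutes]
    rfl
  let x : Fin r → Q := fun i => q (algebraMap P A (MvPowerSeries.X i))
  have hxm : ∀ i, x i ∈ (tIdeal k k' A).map (Ideal.Quotient.mk (tIdeal k k' A ^ n)) := fun i => by
    refine Ideal.mem_map_of_mem _ (Ideal.mem_map_of_mem _ ?_)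
    exact EGA418Dim.algebraMap_X_mem_maximalIdeal k r A i
  have hN : ((tIdeal k k' A).map (Ideal.Quotient.mk (tIdeal k k' A ^ n))) ^ n = ⊥ := by
    exact (Ideal.map_pow _ _ _).symm.trans (Ideal.map_quotient_self _)
  have hnil : ∀ i, IsNilpotent (x i) := fun i => ⟨n, by
    have := Ideal.pow_mem_pow (hxm i) n
    rwa [hN, Ideal.mem_bot] at this⟩
  let ev : P' →ₐ[k'] Q := ArtPow.evalNil x hnil
  haveI : IsScalarTower k P R := IsScalarTower.of_algebraMap_eq fun c => by
    rw [IsScalarTower.algebraMap_apply P A R, ← IsScalarTower.algebraMap_apply k P A, ← IsScalarTower.algebraMap_apply k A R]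
  let mapP : P →ₐ[k] P' :=
    { algebraMap P P' with
      commutes' := fun c => by
        show MvPowerSeries.map (algebraMap k k') (MvPowerSeries.C c) = _
        rw [MvPowerSeries.map_C, MvPowerSeries.algebraMap_apply] }
  have hev : ∀ f : P, ev (algebraMap P P' f) = algebraMap P Q f := fun f => by
    have h := ArtPow.algHom_ext (φ := (ev.restrictScalars k).comp mapP) (ψ := IsScalarTower.toAlgHom k P Q) hN
      (fun i => by
        show ev (MvPowerSeries.map (algebraMap k k') (MvPowerSeries.X i)) = q (algebraMap P A (MvPowerSeries.X i))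
        rw [MvPowerSeries.map_X, ArtPow.evalNil_X])
      fun i => by
        show ev (MvPowerSeries.map (algebraMap k k') (MvPowerSeries.X i)) ∈ _
        rw [MvPowerSeries.map_X, ArtPow.evalNil_X]
        exact hxm i
    exact DFunLike.congr_fun h f
  let qP : A →ₐ[P] Q := { q.toRingHom with commutes' := fun f => rfl }
  let evP : P' →ₐ[P] Q := { ev.toRingHom with commutes' := hev }
  let ψ : Model k k' r A →ₐ[P] Q := Algebra.TensorProduct.lift qP evP fun _ _ => Commute.all _ _
  have hψ : ∀ a f, ψ (a ⊗ₜ f) = q a * ev f := fun a f => Algebra.TensorProduct.lift_tmul _ _ _ a f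
  have hψA : ∀ a, ψ (algebraMap A (Model k k' r A) a) = q a := fun a => by
    show ψ (a ⊗ₜ (1 : P')) = _
    rw [hψ, map_one, mul_one]
  have hψJ : mIdeal k k' r A ^ n ≤ RingHom.ker ψ.toRingHom := by
    rw [← Ideal.map_pow, Ideal.map_le_iff_le_comap]
    intro a ha
    show ψ (algebraMap A (Model k k' r A) a) = 0
    rw [hψA]
    refine Ideal.Quotient.eq_zero_iff_mem.mpr ?_
    rw [← Ideal.map_pow]
    exact Ideal.mem_map_of_mem _ ha
  let ψb : Model k k' r A ⧸ mIdeal k k' r A ^ n →+* Q := Ideal.Quotient.lift _ ψ.toRingHom hψJ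
  have hRb : ∀ z, ψ (toModel k k' r A z) = Ideal.Quotient.mk _ z := fun z => by
    induction z using TensorProduct.induction_on with
    | zero => simp
    | add a b ha hb => rw [map_add, map_add, map_add, ha, hb]
    | tmul a c =>
      rw [toModel_tmul, hψ, AlgHom.commutes]
      show Ideal.Quotient.mk _ (a ⊗ₜ (1 : k')) * Ideal.Quotient.mk _ ((1 : A) ⊗ₜ c) = _
      rw [← map_mul, Algebra.TensorProduct.tmul_mul_tmul, mul_one, one_mul]
  refine ⟨Function.LeftInverse.injective (g := ψb) fun z => ?_, fun y => ?_⟩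
  · obtain ⟨z, rfl⟩ := Ideal.Quotient.mk_surjective z
    exact hRb z
  · -- the inverse is a right inverse
    refine ⟨ψb y, ?_⟩
    obtain ⟨y, rfl⟩ := Ideal.Quotient.mk_surjective y
    show toModelMod k k' r A n (ψ y) = Ideal.Quotient.mk _ y
    letI : Algebra k' (Model k k' r A ⧸ mIdeal k k' r A ^ n) :=
      RingHom.toAlgebra (S := (Model k k' r A ⧸ mIdeal k k' r A ^ n)) ((Ideal.Quotient.mk (mIdeal k k' r A ^ n)).comp
        ((Algebra.TensorProduct.includeRight : P' →ₐ[P] Model k k' r A).toRingHom.comp (algebraMap k' P')))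
    let g2 : P' →ₐ[k'] (Model k k' r A ⧸ mIdeal k k' r A ^ n) :=
      { (Ideal.Quotient.mk _).comp (Algebra.TensorProduct.includeRight : P' →ₐ[P] Model k k' r A).toRingHom with
        commutes' := fun c => rfl }
    let g1 : P' →ₐ[k'] (Model k k' r A ⧸ mIdeal k k' r A ^ n) :=
      { (toModelMod k k' r A n).comp ev.toRingHom with
        commutes' := fun c => by
          show toModelMod k k' r A n (ev (algebraMap k' P' c)) = _
          rw [AlgHom.commutes]
          show Ideal.Quotient.mk _ (toModel k k' r A ((1 : A) ⊗ₜ c)) = _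
          rw [toModel_tmul]
          rfl }
    have hM : ((mIdeal k k' r A).map (Ideal.Quotient.mk (mIdeal k k' r A ^ n))) ^ n = ⊥ :=
      (map_pow_quotient (mIdeal k k' r A) n)
    have hX : ∀ i, g1 (MvPowerSeries.X i) = Ideal.Quotient.mk _
        (algebraMap A (Model k k' r A) (algebraMap P A (MvPowerSeries.X i))) := fun i => by
      show toModelMod k k' r A n (ev (MvPowerSeries.X i)) = _
      rw [ArtPow.evalNil_X]
      show Ideal.Quotient.mk _ (toModel k k' r A (algebraMap P A (MvPowerSeries.X i) ⊗ₜ (1 : k'))) = _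
      rw [toModel_tmul, map_one]
      rfl
    have hg : g1 = g2 := by
      refine @ArtPow.algHom_ext (Fin r) _ k' _ (Model k k' r A ⧸ mIdeal k k' r A ^ n) (Ideal.Quotient.commRing _) _ ((mIdeal k k' r A).map (Ideal.Quotient.mk (mIdeal k k' r A ^ n))) n hM g1 g2 ?_ ?_
      · intro i
        rw [hX]
        show _ = Ideal.Quotient.mk _ (Algebra.TensorProduct.includeRight (MvPowerSeries.X i : P'))
        rw [span_range_le]
      · intro i
        rw [hX]
        exact Ideal.mem_map_of_mem _ (Ideal.mem_map_of_mem _ (EGA418Dim.algebraMap_X_mem_maximalIdeal k r A i))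
    induction y using TensorProduct.induction_on with
    | zero => simp
    | add a b ha hb => rw [map_add, map_add, map_add, ha, hb]
    | tmul a f =>
      rw [hψ, map_mul, show toModelMod k k' r A n (ev f) = g2 f from DFunLike.congr_fun hg f]
      show Ideal.Quotient.mk _ (toModel k k' r A (a ⊗ₜ (1 : k'))) * Ideal.Quotient.mk _ ((1 : A) ⊗ₜ f) = _
      rw [toModel_tmul, ← map_mul, Algebra.TensorProduct.tmul_mul_tmul, map_one, mul_one, one_mul]

/-- The completed tensor product is the model. -/
theorem exists_completion_equiv :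
    ∃ e : AdicCompletion (tIdeal k k' A) (A ⊗[k] k') ≃+* Model k k' r A,
      ∀ z, e (algebraMap (A ⊗[k] k') _ z) = toModel k k' r A z := by
  haveI : IsAdicComplete (mIdeal k k' r A) (Model k k' r A) := isAdicComplete_model k k' r A
  let I := tIdeal k k' A
  let J := mIdeal k k' r A
  have hcompat : ∀ {m n : ℕ} (hle : m ≤ n), (Ideal.Quotient.factorPow J hle).comp (toModelMod k k' r A n) =
      (toModelMod k k' r A m).comp (Ideal.Quotient.factorPow I hle) := fun {m n} hle =>
    Ideal.Quotient.ringHom_ext (RingHom.ext fun z => rfl)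
  let F : ∀ n, AdicCompletion I (A ⊗[k] k') →+* Model k k' r A ⧸ J ^ n := fun n =>
    (toModelMod k k' r A n).comp (AdicCompletion.evalₐ I n).toRingHom
  have hev : ∀ {m n : ℕ} (hle : m ≤ n) (x : AdicCompletion I (A ⊗[k] k')),
      Ideal.Quotient.factorPow I hle (AdicCompletion.evalₐ I n x) = AdicCompletion.evalₐ I m x := by
    intro m n hle x
    obtain ⟨a, rfl⟩ := AdicCompletion.mk_surjective I (A ⊗[k] k') x
    rw [AdicCompletion.evalₐ_mk, AdicCompletion.evalₐ_mk, Ideal.Quotient.factor_mk, Ideal.Quotient.eq]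
    have h := (SModEq.sub_mem.mp (a.2 hle))
    rw [smul_eq_mul, Ideal.mul_top] at h
    rw [← neg_sub]; exact neg_mem h
  have hF : ∀ {m n : ℕ} (hle : m ≤ n), (Ideal.Quotient.factorPow J hle).comp (F n) = F m := fun {m n} hle =>
    RingHom.ext fun x => by
      show ((Ideal.Quotient.factorPow J hle).comp (toModelMod k k' r A n)) (AdicCompletion.evalₐ I n x) = _
      rw [hcompat hle, RingHom.comp_apply, hev hle x]
      rfl
  let G := IsAdicComplete.liftRingHom J F hF
  have hG : ∀ n x, Ideal.Quotient.mk (J ^ n) (G x) = F n x := fun n x => IsAdicComplete.mk_liftRingHom J F hF n x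
  let inv : ∀ n, Model k k' r A →+* (A ⊗[k] k') ⧸ I ^ n := fun n =>
    ((RingEquiv.ofBijective _ (bijective_toModelMod k k' r A n)).symm.toRingHom).comp (Ideal.Quotient.mk (J ^ n))
  have hinv : ∀ n y, toModelMod k k' r A n (inv n y) = Ideal.Quotient.mk (J ^ n) y := fun n y =>
    (RingEquiv.ofBijective _ (bijective_toModelMod k k' r A n)).apply_symm_apply _
  have hinvc : ∀ {m n : ℕ} (hle : m ≤ n), (Ideal.Quotient.factorPow I hle).comp (inv n) = inv m := fun {m n} hle =>
    RingHom.ext fun y => (bijective_toModelMod k k' r A m).1 <| by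
      show ((toModelMod k k' r A m).comp (Ideal.Quotient.factorPow I hle)) (inv n y) = _
      rw [← hcompat hle, RingHom.comp_apply, hinv, hinv]
      rfl
  refine ⟨RingEquiv.ofBijective G ⟨(injective_iff_map_eq_zero G).mpr fun x hx => ?_, fun y => ?_⟩, fun z => ?_⟩
  · refine AdicCompletion.ext_evalₐ fun n => (bijective_toModelMod k k' r A n).1 ?_
    show F n x = _
    rw [← hG, hx, map_zero, map_zero, map_zero]
  · refine ⟨AdicCompletion.liftRingHom I inv hinvc y, sub_eq_zero.mp (IsHausdorff.haus' (I := J) _ fun n => ?_)⟩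
    rw [SModEq.sub_mem, sub_zero, smul_eq_mul, Ideal.mul_top, ← Ideal.Quotient.eq, hG]
    show toModelMod k k' r A n (AdicCompletion.evalₐ I n _) = _
    rw [AdicCompletion.evalₐ_liftRingHom, hinv]
  · refine sub_eq_zero.mp (IsHausdorff.haus' (I := J) _ fun n => ?_)
    rw [SModEq.sub_mem, sub_zero, smul_eq_mul, Ideal.mul_top, ← Ideal.Quotient.eq]
    refine (hG n _).trans ?_
    show toModelMod k k' r A n (AdicCompletion.evalₐ I n (algebraMap (A ⊗[k] k') _ z)) = _
    rw [AlgHom.commutes]
    rfl

end Groth.Agent.EGA418Base
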