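/-
Primes of the model over a prime: existence, regularity, comparison along surjections.
-/
import Mathlib
import Groth.Agent.EGA418Base.Completion
import Groth.Agent.EGA418Dim.Etale
import Groth.Agent.RegTrans.Basic

set_option autoImplicit false
universe u

namespace Groth.Agent.EGA418Base

open IsLocalRing TensorProduct

/-- Local rings at primes of a surjection with locally negligible kernel. -/
theorem bijective_localRingHom {S T : Type u} [CommRing S] [CommRing T] (f : S →+* T)
    (hf : Function.Surjective f) (Q : Ideal T) [Q.IsPrime] (s : S) (hs : f s ∉ Q)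
    (hker : ∀ a, f a = 0 → s * a = 0) :
    Function.Bijective (Localization.localRingHom (Q.comap f) Q f rfl) := by
  let φ := Localization.localRingHom (Q.comap f) Q f rfl
  show Function.Bijective φ
  refine ⟨(injective_iff_map_eq_zero φ).mpr fun z hz => ?_, fun z => ?_⟩
  · obtain ⟨a, t, rfl⟩ := IsLocalization.exists_mk'_eq (Q.comap f).primeCompl z
    rw [Localization.localRingHom_mk', IsLocalization.mk'_eq_zero_iff] at hz
    obtain ⟨c, hc⟩ := hz
    obtain ⟨c', hc'⟩ := hf c.1
    rw [IsLocalization.mk'_eq_zero_iff]
    refine ⟨⟨s * c', fun h => ?_⟩, ?_⟩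
    · have h' : f (s * c') ∈ Q := h
      rw [map_mul, hc'] at h'
      exact c.2 ((Ideal.IsPrime.mem_or_mem ‹Q.IsPrime› h').resolve_left hs)
    · show s * c' * a = 0
      rw [mul_assoc]
      exact hker _ (by rw [map_mul, hc']; exact hc)
  · obtain ⟨b, t, rfl⟩ := IsLocalization.exists_mk'_eq Q.primeCompl z
    obtain ⟨a, rfl⟩ := hf b
    obtain ⟨t', ht'⟩ := hf t.1
    refine ⟨IsLocalization.mk' (M := (Q.comap f).primeCompl) (Localization.AtPrime (Q.comap f)) a ⟨t', fun (h : t' ∈ Q.comap f) => t.2 (ht' ▸ Ideal.mem_comap.mp h : (t.1 : T) ∈ Q)⟩, ?_⟩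
    rw [Localization.localRingHom_mk']
    exact congrArg _ (Subtype.ext ht')

/-- Regularity transfers along a surjection with locally negligible kernel. -/
theorem isRegularLocalRing_iff_of_surjective {S T : Type u} [CommRing S] [CommRing T] (f : S →+* T)
    (hf : Function.Surjective f) (Q : Ideal T) [Q.IsPrime] (s : S) (hs : f s ∉ Q)
    (hker : ∀ a, f a = 0 → s * a = 0) :
    IsRegularLocalRing (Localization.AtPrime (Q.comap f)) ↔ IsRegularLocalRing (Localization.AtPrime Q) := by
  let e := RingEquiv.ofBijective _ (bijective_localRingHom f hf Q s hs hker)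
  constructor
  · intro h
    exact IsRegularLocalRing.of_ringEquiv e
  · intro h
    exact IsRegularLocalRing.of_ringEquiv e.symm

theorem isRegularLocalRing_of_comap_equiv {S T : Type u} [CommRing S] [CommRing T] (e : S ≃+* T) (Q : Ideal T)
    [Q.IsPrime] :
    IsRegularLocalRing (Localization.AtPrime (Q.comap e.toRingHom)) ↔ IsRegularLocalRing (Localization.AtPrime Q) :=
  isRegularLocalRing_iff_of_surjective e.toRingHom e.surjective Q 1
    (by rw [map_one]; exact fun h => Ideal.IsPrime.ne_top ‹_› ((Ideal.eq_top_iff_one _).mpr h))
    fun a ha => by rw [one_mul]; exact e.injective (ha.trans (map_zero _).symm)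

variable (k k' : Type u) [Field k] [Field k'] [Algebra k k'] (r : ℕ) (A : Type u) [CommRing A] [IsLocalRing A]
  [IsNoetherianRing A] [Algebra k A] [Algebra (MvPowerSeries (Fin r) k) A]
  [IsScalarTower k (MvPowerSeries (Fin r) k) A] [Module.Finite (MvPowerSeries (Fin r) k) A]

omit [IsLocalRing A] [IsNoetherianRing A] [IsScalarTower k (MvPowerSeries (Fin r) k) A] [Algebra k A]
  [Module.Finite (MvPowerSeries (Fin r) k) A] in
/-- Primes of the model exist over every prime. -/
theorem exists_prime_over (p : Ideal A) [p.IsPrime] :
    ∃ (p' : Ideal (Model k k' r A)) (_ : p'.IsPrime), p'.comap (algebraMap A (Model k k' r A)) = p := by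
  let P := MvPowerSeries (Fin r) k
  let P' := MvPowerSeries (Fin r) k'
  obtain ⟨π, hπ⟩ := LinearMap.exists_leftInverse_of_injective (Algebra.linearMap k k')
    (LinearMap.ker_eq_bot.mpr (algebraMap k k').injective)
  let ρ : P' →ₗ[P] P :=
    { toFun := fun f e => π (MvPowerSeries.coeff e f)
      map_add' := fun f g => MvPowerSeries.ext fun e => by
        show π (MvPowerSeries.coeff e (f + g)) = π (MvPowerSeries.coeff e f) + π (MvPowerSeries.coeff e g)
        rw [map_add, map_add]
      map_smul' := fun g f => MvPowerSeries.ext fun e => by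
        classical
        show π (MvPowerSeries.coeff e (g • f)) =
          MvPowerSeries.coeff e (g * (show P from fun d => π (MvPowerSeries.coeff d f)))
        rw [Algebra.smul_def, MvPowerSeries.algebraMap_apply'', MvPowerSeries.coeff_mul, MvPowerSeries.coeff_mul, map_sum]
        refine Finset.sum_congr rfl fun x _ => ?_
        rw [MvPowerSeries.coeff_map, ← Algebra.smul_def, map_smul, smul_eq_mul]
        rfl }
  have hρ1 : ρ 1 = 1 := MvPowerSeries.ext fun e => by
    classical
    show π (MvPowerSeries.coeff e (1 : P')) = MvPowerSeries.coeff e (1 : P)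
    rw [MvPowerSeries.coeff_one, MvPowerSeries.coeff_one]
    split_ifs
    · exact (congrArg π (map_one (algebraMap k k')).symm).trans (LinearMap.congr_fun hπ 1)
    · exact map_zero π
  let ret : Model k k' r A →ₗ[A] A :=
    (TensorProduct.AlgebraTensorModule.rid P A A).toLinearMap ∘ₗ TensorProduct.AlgebraTensorModule.map LinearMap.id ρ
  have hret : ∀ a, ret (algebraMap A (Model k k' r A) a) = a := fun a => by
    show TensorProduct.AlgebraTensorModule.rid P A A (a ⊗ₜ ρ 1) = a
    rw [hρ1, TensorProduct.AlgebraTensorModule.rid_tmul, one_smul]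
  have hcm : (p.map (algebraMap A (Model k k' r A))).comap (algebraMap A (Model k k' r A)) = p := by
    refine le_antisymm (fun a ha => ?_) Ideal.le_comap_map
    have key : ∀ z ∈ p.map (algebraMap A (Model k k' r A)), ret z ∈ p := by
      intro z hz
      induction hz using Submodule.span_induction with
      | mem x hx => obtain ⟨b, hb, rfl⟩ := hx; rw [hret]; exact hb
      | zero => rw [map_zero]; exact zero_mem p
      | add x y _ _ hx hy => rw [map_add]; exact add_mem hx hy
      | smul c x hx ih =>
        clear ih
        rw [smul_eq_mul, mul_comm]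
        induction hx using Submodule.span_induction generalizing c with
        | mem u hu =>
          obtain ⟨b, hb, rfl⟩ := hu
          rw [← Algebra.smul_def, map_smul, smul_eq_mul]
          exact Ideal.mul_mem_right _ _ hb
        | zero => rw [zero_mul, map_zero]; exact zero_mem p
        | add u v _ _ hu hv => rw [add_mul, map_add]; exact add_mem (hu c) (hv c)
        | smul d u _ hu => rw [smul_eq_mul, mul_comm d u, mul_assoc]; exact hu (d * c)
    have := key _ ha
    rwa [hret] at this
  obtain ⟨Q, hQ, hQp⟩ := (Ideal.comap_map_eq_self_iff_of_isPrime p).mp hcm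
  exact ⟨Q, hQ, hQp⟩

omit [IsLocalRing A] [IsScalarTower k (MvPowerSeries (Fin r) k) A] [Algebra k A] in
/-- Regularity of the model over an etale prime. -/
theorem isRegularLocalRing_of_etale (p : Ideal A) [p.IsPrime] [Module.Flat (MvPowerSeries (Fin r) k) (Localization.AtPrime p)]
    [Algebra.IsUnramifiedAt (MvPowerSeries (Fin r) k) p] (M : Ideal (Model k k' r A)) [M.IsPrime]
    (hMP : M.comap (algebraMap A (Model k k' r A)) = p) : IsRegularLocalRing (Localization.AtPrime M) := by
  let P := MvPowerSeries (Fin r) k
  let P' := MvPowerSeries (Fin r) k'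
  let S := Model k k' r A
  let R := Localization.AtPrime p
  haveI : IsRegularRing P' := RegTrans.isRegularRing_mvPowerSeries k' r
  haveI : Algebra.EssFiniteType A R := Algebra.EssFiniteType.of_isLocalization _ p.primeCompl
  haveI : Algebra.EssFiniteType P R := Algebra.EssFiniteType.comp P A _
  let T := Localization (Algebra.algebraMapSubmonoid S p.primeCompl)
  letI : CommRing T := OreLocalization.instCommRing
  haveI : Algebra.IsPushout A R S T := .symm <| Algebra.isPushout_of_isLocalization p.primeCompl _ _ _
  haveI : IsRegularRing T := by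
    haveI : IsNoetherianRing (P' ⊗[P] R) := Algebra.EssFiniteType.isNoetherianRing P' _
    haveI : IsRegularRing (P' ⊗[P] R) := by
      constructor
      intro Q hQ
      haveI : Algebra.FormallyUnramified (P' ⊗[P] R) (Localization.AtPrime Q) :=
        Algebra.FormallyUnramified.of_isLocalization Q.primeCompl
      haveI : Algebra.FormallyUnramified P' (Localization.AtPrime Q) :=
        Algebra.FormallyUnramified.comp P' (P' ⊗[P] R) (Localization.AtPrime Q)
      exact EGA418Dim.regular_of_flat_unramified (B := P') Q
    exact IsRegularRing.of_ringEquiv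
      (((Algebra.TensorProduct.comm P P' R).toRingEquiv.trans
        (Algebra.TensorProduct.cancelBaseChange P A R R P').toRingEquiv.symm).trans
          (Algebra.IsPushout.equiv A R S T).toRingEquiv)
  have hdisj : Disjoint (Algebra.algebraMapSubmonoid S p.primeCompl : Set S) (M : Set S) := by
    rw [Set.disjoint_left]
    rintro _ ⟨a, ha, rfl⟩ ham
    exact ha (hMP ▸ ham : a ∈ p)
  let M' : Ideal T := M.map (algebraMap S T)
  haveI : M'.IsPrime := IsLocalization.isPrime_of_isPrime_disjoint _ T M ‹_› hdisj
  have hc : M'.comap (algebraMap S T) = M := IsLocalization.under_map_of_isPrime_disjoint _ T ‹_› hdisj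
  haveI hloc : IsLocalization.AtPrime (Localization.AtPrime M') M := by
    have h2 := IsLocalization.isLocalization_isLocalization_atPrime_isLocalization (R := S)
      (Algebra.algebraMapSubmonoid S p.primeCompl) (S := T) (Localization.AtPrime M') M'
    have hpc : (M'.comap (algebraMap S T)).primeCompl = M.primeCompl :=
      Submonoid.ext fun x => not_congr (SetLike.ext_iff.mp hc x)
    show IsLocalization M.primeCompl _
    rw [← hpc]
    exact h2
  exact IsRegularLocalRing.of_ringEquiv (R := Localization.AtPrime M')
    (IsLocalization.algEquiv M.primeCompl (Localization.AtPrime M') (Localization.AtPrime M)).toRingEquiv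

end Groth.Agent.EGA418Base
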