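/-
Comparison of the completed base changes of a ring and of a quotient.
-/
import Mathlib
import Groth.Agent.EGA418Base.Regular
import Groth.Agent.EGA418Dim.Finite
import Groth.Agent.SerreReg.CM

set_option autoImplicit false
universe u

namespace Groth.Agent.EGA418Base

open IsLocalRing TensorProduct

/-- A presentation over power series in as many variables as the dimension. -/
theorem exists_presentation (k A : Type u) [Field k] [CommRing A] [IsLocalRing A] [IsNoetherianRing A] [Algebra k A]
    [IsAdicComplete (maximalIdeal A) A] [Module.Finite k (ResidueField A)] (n : ℕ) (hn : ringKrullDim A = n) :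
    ∃ (_ : Algebra (MvPowerSeries (Fin n) k) A) (_ : IsScalarTower k (MvPowerSeries (Fin n) k) A),
      Module.Finite (MvPowerSeries (Fin n) k) A := by
  obtain ⟨a, ha⟩ := SerreReg.exists_sop A n hn
  have ham : ∀ i, a i ∈ maximalIdeal A := fun i => ha ▸ Ideal.le_radical (Ideal.subset_span (Set.mem_range_self i))
  obtain ⟨w, -, -, hwfin⟩ := EGA418Dim.exists_finite_evalAdic (k := k) a ham ha
  letI : Algebra (MvPowerSeries (Fin n) k) A := w.toRingHom.toAlgebra
  exact ⟨_, IsScalarTower.of_algebraMap_eq fun c => (w.commutes c).symm, hwfin⟩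

section Change

variable (k k' : Type u) [Field k] [Field k'] [Algebra k k'] (r n : ℕ) (A : Type u) [CommRing A] [IsLocalRing A]
  [IsNoetherianRing A] [Algebra k A]
  [Algebra (MvPowerSeries (Fin r) k) A] [IsScalarTower k (MvPowerSeries (Fin r) k) A]
  [Module.Finite (MvPowerSeries (Fin r) k) A]
  [Algebra (MvPowerSeries (Fin n) k) A] [IsScalarTower k (MvPowerSeries (Fin n) k) A]
  [Module.Finite (MvPowerSeries (Fin n) k) A]

/-- Two models of the same ring are isomorphic. -/
theorem exists_change :
    ∃ E : Model k k' r A ≃+* Model k k' n A,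
      ∀ a, E (algebraMap A (Model k k' r A) a) = algebraMap A (Model k k' n A) a := by
  obtain ⟨e1, he1⟩ := exists_completion_equiv k k' r A
  obtain ⟨e2, he2⟩ := exists_completion_equiv k k' n A
  refine ⟨e1.symm.trans e2, fun a => ?_⟩
  have h1 : e1 (algebraMap (A ⊗[k] k') _ (a ⊗ₜ 1)) = algebraMap A (Model k k' r A) a := by
    rw [he1]; exact (toModel k k' r A).commutes a
  rw [← h1, RingEquiv.trans_apply, RingEquiv.symm_apply_apply, he2]
  exact (toModel k k' n A).commutes a

end Change

section Quot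

variable (k k' : Type u) [Field k] [Field k'] [Algebra k k'] (r : ℕ) (A : Type u) [CommRing A]
  [Algebra (MvPowerSeries (Fin r) k) A] (J : Ideal A)

/-- The map of models induced by a quotient. -/
noncomputable def quotMap : Model k k' r A →+* Model k k' r (A ⧸ J) :=
  (Algebra.TensorProduct.map (Ideal.Quotient.mkₐ (MvPowerSeries (Fin r) k) J)
    (AlgHom.id (MvPowerSeries (Fin r) k) (MvPowerSeries (Fin r) k'))).toRingHom

theorem quotMap_surjective : Function.Surjective (quotMap k k' r A J) := fun z => by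
  induction z using TensorProduct.induction_on with
  | zero => exact ⟨0, map_zero _⟩
  | add a b ha hb =>
    obtain ⟨a, rfl⟩ := ha
    obtain ⟨b, rfl⟩ := hb
    exact ⟨a + b, map_add _ a b⟩
  | tmul a f =>
    obtain ⟨a, rfl⟩ := Ideal.Quotient.mk_surjective a
    exact ⟨a ⊗ₜ f, rfl⟩

theorem quotMap_algebraMap (a : A) :
    quotMap k k' r A J (algebraMap A _ a) = algebraMap (A ⧸ J) _ (Ideal.Quotient.mk J a) := rfl

theorem quotMap_kill (s : A) (hs : ∀ a ∈ J, s * a = 0) (z : Model k k' r A) (hz : quotMap k k' r A J z = 0) :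
    algebraMap A (Model k k' r A) s * z = 0 := by
  let P := MvPowerSeries (Fin r) k
  let σ : (A ⧸ J) →ₗ[P] A := (Submodule.liftQ J (LinearMap.mulLeft A s) fun a ha => hs a ha).restrictScalars P
  have key : ∀ z : Model k k' r A, algebraMap A (Model k k' r A) s * z =
      TensorProduct.map σ LinearMap.id (quotMap k k' r A J z) := fun z => by
    induction z using TensorProduct.induction_on with
    | zero => rw [mul_zero, map_zero, map_zero]
    | add a b ha hb => rw [mul_add, ha, hb, map_add, map_add]
    | tmul a f =>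
      show (s ⊗ₜ (1 : MvPowerSeries (Fin r) k')) * (a ⊗ₜ f) = (s * a) ⊗ₜ f
      rw [Algebra.TensorProduct.tmul_mul_tmul, one_mul]
  rw [key, hz, map_zero]

end Quot

/-- Primes of the completed base change over `p`, seen in the model of a quotient. -/
theorem exists_prime_transfer (k k' : Type u) [Field k] [Field k'] [Algebra k k'] (A : Type u) [CommRing A]
    [IsLocalRing A] [IsNoetherianRing A] [Algebra k A] (r n : ℕ)
    [Algebra (MvPowerSeries (Fin r) k) A] [IsScalarTower k (MvPowerSeries (Fin r) k) A]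
    [Module.Finite (MvPowerSeries (Fin r) k) A] (p J : Ideal A) [p.IsPrime] [IsLocalRing (A ⧸ J)]
    [Algebra (MvPowerSeries (Fin n) k) (A ⧸ J)] [IsScalarTower k (MvPowerSeries (Fin n) k) (A ⧸ J)]
    [Module.Finite (MvPowerSeries (Fin n) k) (A ⧸ J)] (hJp : J ≤ p) (s : A) (hs : s ∉ p) (hsJ : ∀ a ∈ J, s * a = 0)
    (p' : Ideal (AdicCompletion (tIdeal k k' A) (A ⊗[k] k'))) [p'.IsPrime]
    (hp' : ∀ a : A, algebraMap (A ⊗[k] k') (AdicCompletion (tIdeal k k' A) (A ⊗[k] k')) (a ⊗ₜ 1) ∈ p' ↔ a ∈ p) :
    ∃ (Q : Ideal (Model k k' n (A ⧸ J))) (_ : Q.IsPrime),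
      Q.comap (algebraMap (A ⧸ J) (Model k k' n (A ⧸ J))) = p.map (Ideal.Quotient.mk J) ∧
      (IsRegularLocalRing (Localization.AtPrime p') ↔ IsRegularLocalRing (Localization.AtPrime Q)) := by
  haveI : IsScalarTower k (MvPowerSeries (Fin r) k) (A ⧸ J) := IsScalarTower.of_algebraMap_eq fun c => by
    rw [IsScalarTower.algebraMap_apply k A (A ⧸ J), IsScalarTower.algebraMap_apply k (MvPowerSeries (Fin r) k) A,
      ← IsScalarTower.algebraMap_apply]
  haveI : Module.Finite (MvPowerSeries (Fin r) k) (A ⧸ J) :=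
    Module.Finite.of_surjective ((Ideal.Quotient.mkₐ (MvPowerSeries (Fin r) k) J).toLinearMap)
      Ideal.Quotient.mk_surjective
  obtain ⟨e, he⟩ := exists_completion_equiv k k' r A
  obtain ⟨E, hE⟩ := exists_change k k' r n (A ⧸ J)
  let P1 : Ideal (Model k k' r A) := p'.comap e.symm.toRingHom
  haveI : P1.IsPrime := Ideal.IsPrime.comap _
  have hP1 : ∀ a, algebraMap A (Model k k' r A) a ∈ P1 ↔ a ∈ p := fun a => by
    show e.symm _ ∈ p' ↔ _
    rw [← hp', ← (toModel k k' r A).commutes a, ← he, RingEquiv.symm_apply_apply]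
    rfl
  have hker : RingHom.ker (quotMap k k' r A J) ≤ P1 := fun z hz => by
    have h : algebraMap A (Model k k' r A) s * z ∈ P1 := by
      rw [quotMap_kill k k' r A J s hsJ z hz]; exact zero_mem _
    exact (Ideal.IsPrime.mem_or_mem inferInstance h).resolve_left fun h => hs ((hP1 s).mp h)
  let P2 : Ideal (Model k k' r (A ⧸ J)) := P1.map (quotMap k k' r A J)
  haveI : P2.IsPrime := Ideal.map_isPrime_of_surjective (quotMap_surjective k k' r A J) hker
  have hcm : P2.comap (quotMap k k' r A J) = P1 := by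
    rw [Ideal.comap_map_of_surjective _ (quotMap_surjective k k' r A J), ← RingHom.ker_eq_comap_bot]
    exact sup_of_le_left hker
  let Q : Ideal (Model k k' n (A ⧸ J)) := P2.comap E.symm.toRingHom
  haveI : Q.IsPrime := Ideal.IsPrime.comap _
  refine ⟨Q, inferInstance, ?_, ?_⟩
  · refine Ideal.ext fun b => ?_
    obtain ⟨a, rfl⟩ := Ideal.Quotient.mk_surjective b
    rw [Ideal.mem_quotient_iff_mem hJp, ← hP1, ← hcm]
    show E.symm _ ∈ P2 ↔ _
    rw [← hE, RingEquiv.symm_apply_apply]
    rfl
  · have h1 := isRegularLocalRing_of_comap_equiv e.symm p'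
    have h2 := isRegularLocalRing_of_comap_equiv E.symm P2
    have h3 := isRegularLocalRing_iff_of_surjective (quotMap k k' r A J) (quotMap_surjective k k' r A J) P2
      (algebraMap A _ s) (fun h => hs ((hP1 s).mp (hcm ▸ h))) (quotMap_kill k k' r A J s hsJ)
    refine h1.symm.trans (Iff.trans ?_ h2.symm)
    have key : ∀ (X : Ideal (Model k k' r A)) (_ : X.IsPrime), X = P1 →
        (IsRegularLocalRing (Localization.AtPrime P1) ↔ IsRegularLocalRing (Localization.AtPrime X)) := by
      rintro X _ rfl; rfl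
    exact (key _ inferInstance hcm).trans h3

end Groth.Agent.EGA418Base
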