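/-
The fibre bound at regular primes of the model over a perfect field.
-/
import Mathlib
import Groth.Agent.EGA418Base.Regular
import Groth.Agent.EGA418Dim.CharZeroFibre
import Groth.Agent.EGA418Dim.FFinite
import Groth.Agent.EGA418Dim.Finite
import Groth.Agent.EGA418Dim.LocSpan
import Groth.Agent.Hensel.Branches
import Groth.Agent.S5989
import Groth.Agent.EGA41SymGr.Model

set_option autoImplicit false
universe u

namespace Groth.Agent.EGA418Base

open IsLocalRing TensorProduct

attribute [local instance 2000] Ring.toIntAlgebra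

/-- Local dimension plus dimension of the quotient is at most the dimension. -/
theorem dim_localization_add_dim_quotient_le {X : Type u} [CommRing X] (M : Ideal X) [M.IsPrime] :
    ringKrullDim (Localization.AtPrime M) + ringKrullDim (X ⧸ M) ≤ ringKrullDim X := by
  let P : PrimeSpectrum X := ⟨M, inferInstance⟩
  haveI : Nonempty (PrimeSpectrum X) := ⟨P⟩
  let Φ : PrimeSpectrum (X ⧸ M) → PrimeSpectrum X := PrimeSpectrum.comap (Ideal.Quotient.mk M)
  have hΦ : StrictMono Φ := fun a b h => (Ideal.comap_mono h.le).lt_of_ne fun he => h.ne (PrimeSpectrum.ext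
    (Ideal.comap_injective_of_surjective _ Ideal.Quotient.mk_surjective he))
  haveI : IsDomain (X ⧸ M) := Ideal.Quotient.isDomain M
  have hbot : Φ ⊥ = P := PrimeSpectrum.ext (by
    show Ideal.comap (Ideal.Quotient.mk M) (⊥ : Ideal (X ⧸ M)) = M
    rw [← RingHom.ker_eq_comap_bot, Ideal.mk_ker])
  have h1 : Order.coheight (⊥ : PrimeSpectrum (X ⧸ M)) ≤ Order.coheight P :=
    hbot ▸ Order.coheight_le_coheight_apply_of_strictMono Φ hΦ _
  rw [IsLocalization.AtPrime.ringKrullDim_eq_height M,
    show M.height = Order.height P from PrimeSpectrum.height_eq_orderHeight P,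
    show ringKrullDim (X ⧸ M) = _ from (Order.coheight_bot_eq_krullDim).symm, ← WithBot.coe_add,
    show ringKrullDim X = _ from Order.krullDim_eq_iSup_height_add_coheight_of_nonempty, WithBot.coe_le_coe]
  exact le_trans (add_le_add le_rfl h1) (le_iSup (fun a => Order.height a + Order.coheight a) P)

/-- Compatible derivations of the factors glue to the tensor product. -/
theorem exists_glue_derivation {P A B : Type u} [CommRing P] [CommRing A] [CommRing B] [Algebra P A] [Algebra P B]
    {E : Type u} [AddCommGroup E] [Module (A ⊗[P] B) E] (d1 : A → E) (d2 : B → E)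
    (hd1add : ∀ a b, d1 (a + b) = d1 a + d1 b) (hd2add : ∀ f g, d2 (f + g) = d2 f + d2 g)
    (hd1mul : ∀ a b, d1 (a * b) = (a ⊗ₜ[P] (1 : B)) • d1 b + (b ⊗ₜ[P] (1 : B)) • d1 a)
    (hd2mul : ∀ f g, d2 (f * g) = ((1 : A) ⊗ₜ[P] f) • d2 g + ((1 : A) ⊗ₜ[P] g) • d2 f)
    (hbal : ∀ g : P, d1 (algebraMap P A g) = d2 (algebraMap P B g)) :
    ∃ D : Derivation ℤ (A ⊗[P] B) E, (∀ a, D (a ⊗ₜ 1) = d1 a) ∧ ∀ f, D (1 ⊗ₜ f) = d2 f := by
  have h10 : d1 1 = 0 := by
    have h := hd1mul 1 1
    rw [mul_one, ← Algebra.TensorProduct.one_def, one_smul] at h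
    exact left_eq_add.mp h
  have h20 : d2 1 = 0 := by
    have h := hd2mul 1 1
    rw [mul_one, ← Algebra.TensorProduct.one_def, one_smul] at h
    exact left_eq_add.mp h
  let φ : A → B → E := fun a f => ((1 : A) ⊗ₜ[P] f) • d1 a + (a ⊗ₜ[P] (1 : B)) • d2 f
  let φh : A →+ B →+ E := AddMonoidHom.mk' (fun a => AddMonoidHom.mk' (φ a) fun f f' => by
      simp only [φ, hd2add, TensorProduct.tmul_add, add_smul, smul_add]; abel) fun a a' => AddMonoidHom.ext fun f => by
      show φ (a + a') f = φ a f + φ a' f
      simp only [φ, hd1add, TensorProduct.add_tmul, add_smul, smul_add]; abel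
  let ψ : A ⊗[P] B →+ E := TensorProduct.liftAddHom φh fun g a f => by
    show φ (g • a) f = φ a (g • f)
    have e2 : ∀ (a' : A) (b' : B), (algebraMap P A g * a') ⊗ₜ[P] b' = a' ⊗ₜ[P] (algebraMap P B g * b') := fun a' b' => by
      rw [← Algebra.smul_def, ← Algebra.smul_def, TensorProduct.smul_tmul]
    have e3 : ∀ b' : B, algebraMap P A g ⊗ₜ[P] b' = (1 : A) ⊗ₜ[P] (algebraMap P B g * b') := fun b' => by
      rw [← e2, mul_one]
    simp only [φ, Algebra.smul_def, hd1mul, hd2mul, hbal, smul_add, smul_smul, Algebra.TensorProduct.tmul_mul_tmul,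
      mul_one, one_mul, e2, e3, mul_comm f (algebraMap P B g)]
    abel
  have hψ : ∀ a f, ψ (a ⊗ₜ f) = φ a f := fun a f => TensorProduct.liftAddHom_tmul _ _ a f
  have hleib : ∀ u v, ψ (u * v) = u • ψ v + v • ψ u := by
    intro u v
    induction u using TensorProduct.induction_on with
    | zero => rw [zero_mul, map_zero, zero_smul, smul_zero, add_zero]
    | add u u' hu hu' => rw [add_mul, map_add, map_add, hu, hu', add_smul, smul_add]; abel
    | tmul a f =>
      induction v using TensorProduct.induction_on with
      | zero => rw [mul_zero, map_zero, zero_smul, smul_zero, add_zero]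
      | add v v' hv hv' => rw [mul_add, map_add, map_add, hv, hv', add_smul, smul_add]; abel
      | tmul b g =>
        simp only [hψ, φ, Algebra.TensorProduct.tmul_mul_tmul, hd1mul, hd2mul, smul_add, smul_smul, mul_one,
          one_mul, mul_comm b a, mul_comm g f]
        abel
  haveI : IsScalarTower ℤ (A ⊗[P] B) E := AddCommGroup.intIsScalarTower
  refine ⟨Derivation.mk' ψ.toIntLinearMap hleib, fun a => ?_, fun f => ?_⟩
  · show ψ (a ⊗ₜ 1) = _
    rw [hψ]
    simp only [φ, h20, smul_zero, add_zero, ← Algebra.TensorProduct.one_def, one_smul]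
  · show ψ (1 ⊗ₜ f) = _
    rw [hψ]
    simp only [φ, h10, smul_zero, zero_add, ← Algebra.TensorProduct.one_def, one_smul]

variable (k k' : Type u) [Field k] [Field k'] [Algebra k k'] (r : ℕ) (A : Type u) [CommRing A] [IsLocalRing A]
  [IsNoetherianRing A] [IsAdicComplete (maximalIdeal A) A] [Algebra k A] [Algebra (MvPowerSeries (Fin r) k) A]
  [IsScalarTower k (MvPowerSeries (Fin r) k) A] [Module.Finite (MvPowerSeries (Fin r) k) A]

/-- The differentials of the power series ring inside the completed differentials. -/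
theorem dHat_algebraMap_eq (g : MvPowerSeries (Fin r) k) :
    EGA418Dim.dHat k A (algebraMap (MvPowerSeries (Fin r) k) A g) =
      ∑ i, algebraMap (MvPowerSeries (Fin r) k) A (MvPowerSeries.pderiv k i g) •
        EGA418Dim.dHat k A (algebraMap (MvPowerSeries (Fin r) k) A (MvPowerSeries.X i)) := by
  classical
  let P := MvPowerSeries (Fin r) k
  let w := algebraMap P A
  haveI := EGA418Dim.finite_residueField_of_finite k r A
  haveI := EGA418Dim.finite_omegaHat k A
  let d := EGA418Dim.dHat k A
  let δ : P → EGA418Dim.OmegaHat k A := fun g => d (w g) - ∑ i, w (MvPowerSeries.pderiv k i g) • d (w (MvPowerSeries.X i))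
  have hmul : ∀ f g, δ (f * g) = w f • δ g + w g • δ f := fun f g => by
    simp only [δ, map_mul, Derivation.leibniz, smul_eq_mul, map_add, add_smul, mul_smul, Finset.sum_add_distrib,
      smul_sub, Finset.smul_sum]
    abel
  have hC : ∀ c, δ (MvPowerSeries.C c) = 0 := fun c => by
    have h1 : d (w (MvPowerSeries.C c)) = 0 := by
      rw [show w (MvPowerSeries.C c) = algebraMap k A c by
        rw [IsScalarTower.algebraMap_apply k P A, MvPowerSeries.algebraMap_apply]; rfl, Derivation.map_algebraMap]
    simp only [δ, h1, MvPowerSeries.pderiv_C, map_zero, zero_smul, Finset.sum_const_zero, sub_zero]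
  have hX : ∀ j, δ (MvPowerSeries.X j) = 0 := fun j => by
    simp only [δ]
    rw [Finset.sum_eq_single j]
    · rw [MvPowerSeries.pderiv_X_self, map_one, one_smul, sub_self]
    · intro i _ hi
      rw [MvPowerSeries.pderiv_X_of_ne (Ne.symm hi), map_zero, zero_smul]
    · simp
  have hadd : ∀ f g, δ (f + g) = δ f + δ g := fun f g => by
    simp only [δ, map_add, add_smul, Finset.sum_add_distrib]
    abel
  have hsum : ∀ c : Fin r → P, δ (∑ i, c i * MvPowerSeries.X i) = ∑ i, δ (c i * MvPowerSeries.X i) := fun c =>
    map_sum (AddMonoidHom.mk' δ hadd) _ _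
  suffices δ g = 0 from sub_eq_zero.mp this
  refine IsHausdorff.haus' (I := maximalIdeal A) _ fun N => ?_
  rw [SModEq.sub_mem, sub_zero]
  induction N generalizing g with
  | zero => rw [pow_zero, Ideal.one_eq_top, Submodule.top_smul]; exact Submodule.mem_top
  | succ N ih =>
    obtain ⟨c, hc⟩ := Ideal.mem_span_range_iff_exists_fun.mp (ArtPow.sub_C_constantCoeff_mem g)
    rw [← sub_add_cancel g (MvPowerSeries.C (MvPowerSeries.constantCoeff g)), ← hc, hadd, hC, add_zero, hsum]
    refine sum_mem fun i _ => ?_
    rw [hmul, hX, smul_zero, zero_add, pow_succ', Submodule.mul_smul]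
    exact Submodule.smul_mem_smul (EGA418Dim.algebraMap_X_mem_maximalIdeal k r A i) (ih _)

/-- The derivation of the model into the base-changed completed differentials. -/
theorem exists_model_derivation :
    ∃ D : Derivation ℤ (Model k k' r A) (Model k k' r A ⊗[A] EGA418Dim.OmegaHat k A),
      (∀ a, D (algebraMap A (Model k k' r A) a) = (1 : Model k k' r A) ⊗ₜ[A] EGA418Dim.dHat k A a) ∧
      ∀ c : k', D ((1 : A) ⊗ₜ algebraMap k' (MvPowerSeries (Fin r) k') c) = 0 := by
  classical
  let P := MvPowerSeries (Fin r) k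
  let P' := MvPowerSeries (Fin r) k'
  let X := Model k k' r A
  let E := X ⊗[A] EGA418Dim.OmegaHat k A
  let ι : P' →+* X := (Algebra.TensorProduct.includeRight : P' →ₐ[P] X).toRingHom
  let e : Fin r → E := fun i => (1 : X) ⊗ₜ[A] EGA418Dim.dHat k A (algebraMap P A (MvPowerSeries.X i))
  let d1 : A → E := fun a => (1 : X) ⊗ₜ[A] EGA418Dim.dHat k A a
  let d2 : P' → E := fun f => ∑ i, ι (MvPowerSeries.pderiv k' i f) • e i
  have hA : ∀ (a : A) (v : E), a • v = algebraMap A X a • v := fun a v => (algebraMap_smul X a v).symm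
  have hι : ∀ g : P, ι (algebraMap P P' g) = algebraMap A X (algebraMap P A g) := fun g => by
    show (Algebra.TensorProduct.includeRight : P' →ₐ[P] X) (algebraMap P P' g) = _
    rw [AlgHom.commutes, IsScalarTower.algebraMap_apply P A X]
  have hd1mul : ∀ a b, d1 (a * b) = algebraMap A X a • d1 b + algebraMap A X b • d1 a := fun a b => by
    simp only [d1, Derivation.leibniz, TensorProduct.tmul_add, TensorProduct.tmul_smul, hA]
  have hd2mul : ∀ f g, d2 (f * g) = ι f • d2 g + ι g • d2 f := fun f g => by
    simp only [d2, Derivation.leibniz, smul_eq_mul, map_add, map_mul, add_smul, mul_smul, Finset.sum_add_distrib,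
      Finset.smul_sum]
  have hpd : ∀ (g : P) i, MvPowerSeries.pderiv k' i (algebraMap P P' g) = algebraMap P P' (MvPowerSeries.pderiv k i g) := by
    intro g i
    refine MvPowerSeries.ext fun n => ?_
    show MvPowerSeries.coeff n (MvPowerSeries.pderiv k' i (MvPowerSeries.map (algebraMap k k') g)) =
      MvPowerSeries.coeff n (MvPowerSeries.map (algebraMap k k') (MvPowerSeries.pderiv k i g))
    rw [MvPowerSeries.coeff_pderiv, MvPowerSeries.coeff_map, MvPowerSeries.coeff_map, MvPowerSeries.coeff_pderiv,
      map_mul, map_add, map_one, map_natCast]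
  have hbal : ∀ g : P, d1 (algebraMap P A g) = d2 (algebraMap P P' g) := fun g => by
    simp only [d1, d2]
    rw [dHat_algebraMap_eq k r A g, TensorProduct.tmul_sum]
    refine Finset.sum_congr rfl fun i _ => ?_
    rw [TensorProduct.tmul_smul, hA, hpd, hι]
  obtain ⟨D, hD1, hD2⟩ := exists_glue_derivation (P := P) (A := A) (B := P') (E := E) d1 d2
    (fun a b => by simp only [d1, map_add, TensorProduct.tmul_add])
    (fun f g => by simp only [d2, map_add, add_smul, Finset.sum_add_distrib]) hd1mul hd2mul hbal
  refine ⟨D, fun a => hD1 a, fun c => (hD2 _).trans ?_⟩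
  exact Finset.sum_eq_zero fun i _ => by simp only [Derivation.map_algebraMap, map_zero]; exact zero_smul X (e i)

/-- The dimension of a finite algebra over power series is at most the number of variables. -/
theorem dim_le_of_finite (k : Type u) [Field k] (r : ℕ) (X : Type u) [CommRing X] [Algebra (MvPowerSeries (Fin r) k) X]
    [Module.Finite (MvPowerSeries (Fin r) k) X] : ringKrullDim X ≤ r := by
  haveI : Algebra.IsIntegral (MvPowerSeries (Fin r) k) X := Algebra.IsIntegral.of_finite _ X
  rw [← EGA41SymGr.Model.ringKrullDim_eq (n := r) k]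
  refine Order.krullDim_le_of_strictMono (PrimeSpectrum.comap (algebraMap (MvPowerSeries (Fin r) k) X)) fun a b h => ?_
  exact Ideal.IsIntegral.comap_lt_comap (R := MvPowerSeries (Fin r) k) h

/-- Absolute differentials of the fraction field over a perfect field of positive characteristic. -/
theorem finrank_kaehler_perfect (p : ℕ) [Fact p.Prime] (k C L : Type u) [Field k] [CharP k p] [PerfectField k]
    [CommRing C] [IsDomain C] [IsNoetherianRing C] [IsLocalRing C] [Algebra k C]
    [IsAdicComplete (maximalIdeal C) C] [Module.Finite k (ResidueField C)] (e : ℕ) (he : ringKrullDim C = e)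
    [Field L] [Algebra C L] [IsFractionRing C L] [Algebra k L] [IsScalarTower k C L] :
    Module.Finite L (Ω[L⁄ℤ]) ∧ Module.finrank L (Ω[L⁄ℤ]) = e := by
  haveI : ExpChar k p := ExpChar.prime Fact.out
  haveI : PerfectRing k p := PerfectField.toPerfectRing p
  have hk : (frobenius k p).Finite := RingHom.Finite.of_surjective _ (bijective_frobenius k p).2
  obtain ⟨heq, hfin⟩ := S5989.result p k C L hk e he
  haveI := hfin
  haveI : Algebra.FormallyEtale C L := Algebra.FormallyEtale.of_isLocalization (nonZeroDivisors C)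
  haveI : Module.Finite L (Ω[L⁄k]) :=
    Module.Finite.equiv (KaehlerDifferential.tensorKaehlerEquivOfFormallyEtale k C L)
  have hD : ∀ c : k, KaehlerDifferential.D ℤ k c = 0 := fun c => by
    obtain ⟨b, rfl⟩ := (bijective_frobenius k p).2 c
    rw [frobenius_def, Derivation.leibniz_pow, ← Nat.cast_smul_eq_nsmul k, CharP.cast_eq_zero k p, zero_smul]
  have hz : ∀ z : L ⊗[k] Ω[k⁄ℤ], z = 0 := fun z => by
    have h1 : ∀ w : Ω[k⁄ℤ], w = 0 := fun w => by
      have hw : w ∈ Submodule.span k (Set.range (KaehlerDifferential.D ℤ k)) :=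
        (KaehlerDifferential.span_range_derivation ℤ k).ge Submodule.mem_top
      refine (Submodule.span_le (p := (⊥ : Submodule k (Ω[k⁄ℤ])))).mpr ?_ hw
      rintro _ ⟨c, rfl⟩
      exact hD c
    induction z using TensorProduct.induction_on with
    | zero => rfl
    | add a b ha hb => rw [ha, hb, add_zero]
    | tmul a w => rw [h1 w, TensorProduct.tmul_zero]
  have hinj : Function.Injective (KaehlerDifferential.map ℤ k L L) := (injective_iff_map_eq_zero _).mpr fun x hx => by
    obtain ⟨z, rfl⟩ := (KaehlerDifferential.exact_mapBaseChange_map ℤ k L x).mp hx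
    rw [hz z, map_zero]
  let E := LinearEquiv.ofBijective (KaehlerDifferential.map ℤ k L L) ⟨hinj, KaehlerDifferential.map_surjective ℤ k L⟩
  have hker : Module.finrank L (LinearMap.ker (KaehlerDifferential.mapBaseChange ℤ k L)) = 0 := by
    haveI : Subsingleton (LinearMap.ker (KaehlerDifferential.mapBaseChange ℤ k L)) :=
      ⟨fun a b => Subtype.ext ((hz a.1).trans (hz b.1).symm)⟩
    exact Module.finrank_zero_of_subsingleton
  refine ⟨Module.Finite.equiv E.symm, ?_⟩
  rw [E.finrank_eq, heq, hker, add_zero]

/-- A derivation killing the constants on the image of power series. -/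
theorem derivation_powerSeries_mem {X E k : Type u} [CommRing X] [IsNoetherianRing X] [AddCommGroup E] [Module X E]
    [Module.Finite X E] [Field k] [Algebra k X] {e : ℕ} (J : Ideal X) [IsAdicComplete J X]
    (w : MvPowerSeries (Fin e) k →ₐ[k] X) (hw : ∀ i, w (MvPowerSeries.X i) ∈ J) (D : Derivation ℤ X E)
    (hD : ∀ c, D (algebraMap k X c) = 0) (f : MvPowerSeries (Fin e) k) :
    D (w f) ∈ Submodule.span X (Set.range fun i => D (w (MvPowerSeries.X i))) := by
  let Q := MvPowerSeries (Fin e) k
  set N := Submodule.span X (Set.range fun i => D (w (MvPowerSeries.X i)))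
  haveI : IsAdicComplete J (E ⧸ N) := AdicLim.isAdicComplete_of_finite J (E ⧸ N)
  refine (Submodule.Quotient.mk_eq_zero N).mp (IsHausdorff.haus' (I := J) _ fun n => ?_)
  rw [SModEq.sub_mem, sub_zero]
  induction n generalizing f with
  | zero => rw [pow_zero, Ideal.one_eq_top, Submodule.top_smul]; exact Submodule.mem_top
  | succ n ih =>
    obtain ⟨g, hg⟩ := Ideal.mem_span_range_iff_exists_fun.mp (ArtPow.sub_C_constantCoeff_mem f)
    rw [← sub_add_cancel f (MvPowerSeries.C (MvPowerSeries.constantCoeff f)), ← hg, map_add, map_add,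
      show D (w (MvPowerSeries.C (MvPowerSeries.constantCoeff f))) = 0 by
        rw [show (MvPowerSeries.C (MvPowerSeries.constantCoeff f) : Q) =
          algebraMap k Q (MvPowerSeries.constantCoeff f) from rfl, AlgHom.commutes]
        exact hD _,
      add_zero, map_sum, map_sum, ← Submodule.mkQ_apply, map_sum]
    refine sum_mem fun i _ => ?_
    rw [map_mul, Derivation.leibniz, map_add, map_smul, map_smul,
      show N.mkQ (D (w (MvPowerSeries.X i))) = 0 from
        (Submodule.Quotient.mk_eq_zero N).mpr (Submodule.subset_span ⟨i, rfl⟩),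
      smul_zero, zero_add, pow_succ', Submodule.mul_smul]
    exact Submodule.smul_mem_smul (hw i) (ih _)

/-- A derivation killing a prime and an algebraic base of its residue field of characteristic zero vanishes. -/
theorem derivation_int_eq_zero {X E : Type u} [CommRing X] (M : Ideal X) [M.IsPrime] [CharZero M.ResidueField]
    [AddCommGroup E] [Module M.ResidueField E] [Module X E] [IsScalarTower X M.ResidueField E]
    (d : Derivation ℤ X E) (hd : ∀ a ∈ M, d a = 0) (P : Type u) [CommRing P] [Algebra P M.ResidueField]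
    (hP : ∀ f, ∃ x, algebraMap X M.ResidueField x = algebraMap P M.ResidueField f ∧ d x = 0) (a : X)
    (ha : IsIntegral P (algebraMap X M.ResidueField a)) : d a = 0 := by
  haveI hT : ∀ i : Algebra ℤ M.ResidueField, @IsScalarTower ℤ M.ResidueField E i.toSMul _
      (AddCommGroup.toIntModule E).toDistribMulAction.toDistribSMul.toSMul := fun i => by
    letI := i
    exact IsScalarTower.of_algebraMap_smul fun m v => by rw [eq_intCast]; exact Int.cast_smul_eq_zsmul _ m v
  let i0 : Algebra ℤ M.ResidueField :=
    @ResidueField.algebra (Localization.AtPrime M) _ _ ℤ _ OreLocalization.instAlgebra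
  obtain ⟨δ, hδ⟩ := @EGA418Dim.exists_residue_derivation ℤ X _ _ _ M _ E _ _ _ _ _ _ (hT i0) d hd
  rw [← hδ]
  refine @EGA418Dim.derivation_eq_zero_of_isAlgebraic ℤ M.ResidueField E _ _ _
    i0 _ _ _ (hT i0) δ P _ _ (fun f => ?_) _ ha
  obtain ⟨x, hx, hx0⟩ := hP f
  rw [← hx, hδ, hx0]

/-- The bound on a fibre with a derivation generating it, at a regular prime. -/
theorem finrank_le_of_derivation (k' : Type u) [Field k'] [PerfectField k'] (r : ℕ) (X : Type u) [CommRing X]
    [Algebra (MvPowerSeries (Fin r) k') X] [Module.Finite (MvPowerSeries (Fin r) k') X] (p' : Ideal X) [p'.IsPrime]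
    [IsRegularLocalRing (Localization.AtPrime p')] (V0 : Type u) [AddCommGroup V0] [Module p'.ResidueField V0]
    [Module X V0] [IsScalarTower X p'.ResidueField V0] {E : Type u} [AddCommGroup E] [Module X E]
    [Module.Finite X E] (L : E →ₗ[X] V0) (D : Derivation ℤ X E)
    (hD : ∀ c : k', D (algebraMap (MvPowerSeries (Fin r) k') X (algebraMap k' (MvPowerSeries (Fin r) k') c)) = 0)
    (hgenV : ∀ W : Submodule p'.ResidueField V0, (∀ a, L (D a) ∈ W) → W = ⊤) :
    Module.finrank p'.ResidueField V0 ≤ r := by
  classical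
  let P' := MvPowerSeries (Fin r) k'
  let K := p'.ResidueField
  let d : Derivation ℤ X V0 := L.compDer D
  obtain ⟨h, y, hh, hy, hgen⟩ := EGA418Dim.exists_generators p'
  -- algebra structures over power series
  haveI : IsNoetherianRing X := IsNoetherianRing.of_finite P' X
  haveI := Cohen.isRegularLocalRing_mvPowerSeries k' r
  haveI : IsAdicComplete (maximalIdeal P') P' := ArtObs.isAdicComplete_ps k' r
  haveI : HenselianLocalRing P' := (Hensel.henselianLocalRing_iff P').mpr inferInstance
  let C := X ⧸ p'
  letI iC : CommRing C := Ideal.Quotient.commRing p'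
  let fC : P' →+* C := algebraMap P' C
  let mX : Ideal X := (maximalIdeal P').map (algebraMap P' X)
  let mC : Ideal C := (maximalIdeal P').map fC
  haveI : IsDomain C := Ideal.Quotient.isDomain p'
  haveI : IsScalarTower P' X C := inferInstance
  haveI : Module.Finite P' C := Module.Finite.of_surjective ((Ideal.Quotient.mkₐ P' p').toLinearMap)
    Ideal.Quotient.mk_surjective
  haveI : Algebra.IsIntegral P' C := Algebra.IsIntegral.of_finite P' C
  haveI : IsLocalRing C := Hensel.isLocalRing_of_integral_domain P' C
  obtain ⟨c, hc0, hc⟩ := exists_pow_le_span k' r C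
  haveI : IsAdicComplete (maximalIdeal P') X := AdicLim.isAdicComplete_of_finite _ X
  haveI : IsAdicComplete (maximalIdeal P') C := AdicLim.isAdicComplete_of_finite _ C
  haveI : IsAdicComplete mX X := (IsAdicComplete.map_algebraMap_iff _ _).2 inferInstance
  haveI : IsAdicComplete mC C := (IsAdicComplete.map_algebraMap_iff _ _).2 inferInstance
  have hmC : mC ≤ maximalIdeal C := Ideal.map_le_iff_le_comap.mpr (by
    rw [IsLocalRing.eq_maximalIdeal (Ideal.isMaximal_comap_of_isIntegral_of_isMaximal (R := P') (maximalIdeal C))])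
  haveI : IsAdicComplete (maximalIdeal C) C := isAdicComplete_of_pow_le (I := mC) hc0 hc hmC
  letI : Algebra k' X := ((algebraMap P' X).comp (algebraMap k' P')).toAlgebra
  haveI : IsScalarTower k' P' X := IsScalarTower.of_algebraMap_eq fun _ => rfl
  haveI : IsScalarTower k' P' C := IsScalarTower.of_algebraMap_eq fun _ => rfl
  haveI : IsScalarTower k' X C := IsScalarTower.of_algebraMap_eq fun _ => rfl
  haveI := EGA418Dim.finite_residueField_of_finite k' r C
  obtain ⟨e, w, -, hwloc, hwfin, he⟩ := EGA418Dim.exists_noether (k := k') (A := C)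
  have hdim : h + e ≤ r := by
    have h1 := (dim_localization_add_dim_quotient_le p').trans (dim_le_of_finite k' r X)
    rw [← hh, show ringKrullDim (X ⧸ p') = _ from he] at h1
    exact_mod_cast h1
  refine le_trans ?_ hdim
  have hsm : ∀ (a : X) (z : V0), a • z = algebraMap X K a • z := fun a z => (algebraMap_smul K a z).symm
  rcases CharP.exists' k' with hchar | ⟨q, hq, hqchar⟩
  · -- characteristic zero
    haveI : CharZero K := charZero_of_injective_algebraMap (algebraMap k' K).injective
    let Q := MvPowerSeries (Fin e) k'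
    letI : Algebra Q C := w.toRingHom.toAlgebra
    haveI : Module.Finite Q C := hwfin
    obtain ⟨c2, hc20, hc2⟩ := exists_pow_le_span k' e C
    have hwm : ∀ i, w (MvPowerSeries.X i) ∈ maximalIdeal C := fun i =>
      EGA418Dim.algebraMap_X_mem_maximalIdeal k' e C i
    have hz : ∀ i, ∃ z ∈ mX, Ideal.Quotient.mk p' z = w (MvPowerSeries.X i) ^ c := fun i => by
      have h1 : w (MvPowerSeries.X i) ^ c ∈ mC := hc (Ideal.pow_mem_pow (hwm i) c)
      rw [show mC = mX.map (Ideal.Quotient.mk p') from (Ideal.map_map _ _).symm] at h1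
      exact (Ideal.mem_map_iff_of_surjective _ Ideal.Quotient.mk_surjective).mp h1
    choose z hzX hzC using hz
    have hzm : ∀ i, Ideal.Quotient.mk p' (z i) ∈ maximalIdeal C := fun i =>
      hzC i ▸ Ideal.pow_mem_of_mem _ (hwm i) c hc0
    have hrad : (Ideal.span (Set.range fun i => Ideal.Quotient.mk p' (z i))).radical = maximalIdeal C := by
      refine le_antisymm ((Ideal.IsPrime.radical_le_iff (maximalIdeal.isMaximal C).isPrime).mpr
        (Ideal.span_le.mpr (Set.range_subset_iff.mpr hzm))) fun a ha => ?_
      have h1 := hc2 (Ideal.pow_mem_pow ha c2)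
      rw [map_maximalIdeal_powerSeries] at h1
      refine Ideal.radical_idem (R := C) _ ▸ (⟨c2, (Ideal.span_le.mpr ?_) h1⟩ : a ∈ (Ideal.radical _).radical)
      rintro _ ⟨i, rfl⟩
      exact ⟨c, Ideal.subset_span ⟨i, hzC i⟩⟩
    obtain ⟨w', hw'X, -, hw'fin⟩ := EGA418Dim.exists_finite_evalAdic (k := k') _ hzm hrad
    obtain ⟨wX, hwX⟩ := ArtKit.exists_evalAdic (R := k') mX z hzX
    have hlift : (Ideal.Quotient.mkₐ k' p').comp wX = w' :=
      ArtKit.algHom_ext_adic (maximalIdeal C) (fun i => by
        rw [AlgHom.comp_apply, hwX, hw'X]; rfl) fun i => by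
        rw [AlgHom.comp_apply, hwX]; exact hzm i
    -- the derivation on the image of power series
    have hN : ∀ f, D (wX f) ∈ Submodule.span X (Set.range fun i => D (wX (MvPowerSeries.X i))) := fun f =>
      derivation_powerSeries_mem mX wX (fun i => by rw [hwX]; exact hzX i) D (fun b => hD b) f
    let W : Submodule K V0 := Submodule.span K (Set.range (fun j => d (y j)) ∪ Set.range (fun i => d (z i)))
    let dW : Derivation ℤ X (V0 ⧸ W) := (W.mkQ.restrictScalars X).compDer d
    have hy0 : ∀ j, dW (y j) = 0 := fun j =>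
      (Submodule.Quotient.mk_eq_zero W).mpr (Submodule.subset_span (Or.inl ⟨j, rfl⟩))
    have hsm' : ∀ (a : X) (v : V0 ⧸ W), a • v = algebraMap X K a • v := fun a v => (algebraMap_smul K a v).symm
    have hspan0 : ∀ b ∈ Ideal.span (Set.range y), dW b = 0 := fun b hb => by
      obtain ⟨g, rfl⟩ := Ideal.mem_span_range_iff_exists_fun.mp hb
      rw [map_sum]
      refine Finset.sum_eq_zero fun j _ => ?_
      rw [Derivation.leibniz, hy0, smul_zero, zero_add, hsm', Ideal.algebraMap_residueField_eq_zero.mpr (hy j),
        zero_smul]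
    have hdP : ∀ a ∈ p', dW a = 0 := fun a ha => by
      obtain ⟨s, hs, hsa⟩ := hgen a ha
      have h1 := hspan0 _ hsa
      rw [Derivation.leibniz, hsm' a, Ideal.algebraMap_residueField_eq_zero.mpr ha, zero_smul, add_zero, hsm'] at h1
      exact (smul_eq_zero.mp h1).resolve_left fun h => hs (Ideal.algebraMap_residueField_eq_zero.mp h)
    have hdw : ∀ f, dW (wX f) = 0 := fun f => by
      show W.mkQ (L (D (wX f))) = 0
      have h1 := hN f
      generalize D (wX f) = v at h1 ⊢
      induction h1 using Submodule.span_induction with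
      | mem v hv =>
        obtain ⟨i, rfl⟩ := hv
        show W.mkQ (L (D (wX (MvPowerSeries.X i)))) = 0
        rw [hwX]
        exact (Submodule.Quotient.mk_eq_zero W).mpr (Submodule.subset_span (Or.inr ⟨i, rfl⟩))
      | zero => rw [map_zero, map_zero]
      | add a b _ _ ha hb => rw [map_add, map_add, ha, hb, add_zero]
      | smul a b _ hb => rw [map_smul, hsm, map_smul, hb, smul_zero]
    letI : Algebra Q K := ((algebraMap C K).comp w'.toRingHom).toAlgebra
    have hd0 : ∀ a, dW a = 0 := fun a => by
      refine derivation_int_eq_zero p' dW hdP Q (fun f => ⟨wX f, ?_, hdw f⟩) a ?_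
      · show _ = algebraMap C K (w' f)
        rw [← hlift, IsScalarTower.algebraMap_apply X C K]
        rfl
      · obtain ⟨m, hm, hm0⟩ := hw'fin.to_isIntegral (algebraMap X C a)
        refine ⟨m, hm, ?_⟩
        rw [IsScalarTower.algebraMap_apply X C K]
        exact Polynomial.hom_eval₂ m w'.toRingHom (algebraMap C K) _ ▸ (by rw [hm0, map_zero])
    have htop : W = ⊤ := hgenV W fun a => (Submodule.Quotient.mk_eq_zero W).mp (hd0 _)
    rw [← finrank_top K V0, ← htop]
    show Module.finrank K (Submodule.span K (Set.range (fun j => d (y j)) ∪ Set.range (fun i => d (z i)))) ≤ _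
    rw [← Set.Sum.elim_range]
    exact (finrank_range_le_card _).trans (by simp)
  · -- positive characteristic
    haveI := hq
    haveI := hqchar
    obtain ⟨hfin, hK⟩ := finrank_kaehler_perfect q k' C K e he
    haveI := hfin
    let G := LinearMap.liftBaseChange K d.liftKaehlerDifferential
    have hG : Function.Surjective G := LinearMap.range_eq_top.mp (hgenV _ fun a =>
      ⟨(1 : K) ⊗ₜ KaehlerDifferential.D ℤ X a, by
        rw [LinearMap.liftBaseChange_tmul, one_smul, Derivation.liftKaehlerDifferential_comp_D]; rfl⟩)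
    have h1 := (LinearMap.rank_le_of_surjective G hG).trans (EGA418Dim.rank_fibre_le_int p' y hy hgen)
    rw [hK] at h1
    exact Module.finrank_le_of_rank_le h1

/-- The fibre bound at a regular prime of the model over a perfect field. -/
theorem finrank_fibre_le_of_regular [PerfectField k'] (p' : Ideal (Model k k' r A)) [p'.IsPrime]
    [IsRegularLocalRing (Localization.AtPrime p')] (p : Ideal A) [p.IsPrime]
    (hp : p'.comap (algebraMap A (Model k k' r A)) = p) :
    Module.finrank p.ResidueField (p.ResidueField ⊗[A] EGA418Dim.OmegaHat k A) ≤ r := by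
  classical
  haveI := EGA418Dim.finite_residueField_of_finite k r A
  haveI : Module.Finite A (EGA418Dim.OmegaHat k A) := EGA418Dim.finite_omegaHat k A
  let P' := MvPowerSeries (Fin r) k'
  let X := Model k k' r A
  let ι : P' →+* X :=
    (Algebra.TensorProduct.includeRight : P' →ₐ[MvPowerSeries (Fin r) k] X).toRingHom
  let K := p'.ResidueField
  let V0 := K ⊗[A] EGA418Dim.OmegaHat k A
  -- reduction to the residue field upstairs
  haveI : p'.LiesOver p := ⟨hp.symm⟩
  have hV : Module.finrank K V0 = Module.finrank p.ResidueField (p.ResidueField ⊗[A] EGA418Dim.OmegaHat k A) := by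
    letI : Algebra p.ResidueField K :=
      (Ideal.ResidueField.map p p' (algebraMap A X) hp.symm).toAlgebra
    haveI : IsScalarTower A p.ResidueField K := IsScalarTower.of_algebraMap_eq fun a => by
      show _ = Ideal.ResidueField.map p p' (algebraMap A X) hp.symm (algebraMap A p.ResidueField a)
      rw [Ideal.ResidueField.map_algebraMap, IsScalarTower.algebraMap_apply A X K]
    rw [← Module.finrank_baseChange (R := K) (S := p.ResidueField)]
    exact (TensorProduct.AlgebraTensorModule.cancelBaseChange A p.ResidueField K K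
      (EGA418Dim.OmegaHat k A)).finrank_eq.symm
  rw [← hV]
  obtain ⟨D, hD1, hD2⟩ := exists_model_derivation k k' r A
  let E := X ⊗[A] EGA418Dim.OmegaHat k A
  let L : E →ₗ[X] V0 := TensorProduct.AlgebraTensorModule.map (Algebra.linearMap X K) LinearMap.id
  have hd1 : ∀ a, L (D (algebraMap A X a)) = (1 : K) ⊗ₜ[A] EGA418Dim.dHat k A a := fun a => by
    rw [hD1]
    show (algebraMap X K 1) ⊗ₜ[A] EGA418Dim.dHat k A a = _
    rw [map_one]
  have hgenV : ∀ W : Submodule K V0, (∀ a, L (D (algebraMap A X a)) ∈ W) → W = ⊤ := fun W hW => by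
    refine eq_top_iff.mpr fun z _ => ?_
    have hω : ∀ ω, (1 : K) ⊗ₜ[A] ω ∈ W := fun ω => by
      have hω : ω ∈ Submodule.span A (Set.range (EGA418Dim.dHat k A)) := EGA418Dim.span_dHat k A ▸ Submodule.mem_top
      induction hω using Submodule.span_induction with
      | mem z hz => obtain ⟨a, rfl⟩ := hz; rw [← hd1]; exact hW a
      | zero => rw [TensorProduct.tmul_zero]; exact zero_mem W
      | add a b _ _ ha hb => rw [TensorProduct.tmul_add]; exact add_mem ha hb
      | smul a b _ hb => rw [TensorProduct.tmul_smul, ← algebraMap_smul K a]; exact W.smul_mem _ hb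
    induction z using TensorProduct.induction_on with
    | zero => exact zero_mem W
    | add a b ha hb => exact add_mem (ha Submodule.mem_top) (hb Submodule.mem_top)
    | tmul c ω =>
      rw [show c ⊗ₜ[A] ω = c • ((1 : K) ⊗ₜ[A] ω) by rw [TensorProduct.smul_tmul', smul_eq_mul, mul_one]]
      exact W.smul_mem c (hω ω)
  letI : Algebra P' X := Algebra.TensorProduct.rightAlgebra
  haveI : Module.Finite P' X := module_finite_model k k' r A
  exact finrank_le_of_derivation k' r X p' V0 (E := E) L D (fun c => hD2 c) fun W hW => hgenV W fun a => hW _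

end Groth.Agent.EGA418Base
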