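/-
The quotient by the kernel of a localisation and its completed differentials.
-/
import Mathlib
import Groth.Agent.EGA418Dim.Omega
import Groth.Agent.EGA418Dim.LocSpan
import Groth.Agent.EGA418Dim.ResidueFinite
import Groth.Agent.SMT.GradedGlue
import Groth.Agent.EGA41FS.LiftUnique

set_option autoImplicit false
universe u

namespace Groth.Agent.EGA418Base

open IsLocalRing TensorProduct

/-- The kernel of localisation at a prime: the dimension of the quotient. -/
theorem exists_local_quotient {A : Type u} [CommRing A] [IsLocalRing A] [IsNoetherianRing A] (p : Ideal A) [p.IsPrime]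
    (n : ℕ) (hn₁ : ∀ q ∈ minimalPrimes A, q ≤ p → ringKrullDim (A ⧸ q) ≤ n)
    (hn₂ : ∃ q ∈ minimalPrimes A, q ≤ p ∧ ringKrullDim (A ⧸ q) = n) :
    ∃ J : Ideal A, J ≤ p ∧ (∀ a, algebraMap A (Localization.AtPrime p) a = 0 ↔ a ∈ J) ∧
      (∃ s ∉ p, ∀ a ∈ J, s * a = 0) ∧ (∀ q ∈ minimalPrimes A, q ≤ p → J ≤ q) ∧ IsLocalRing (A ⧸ J) ∧
      ringKrullDim (A ⧸ J) = n ∧
      ∃ q ∈ minimalPrimes (A ⧸ J), q ≤ p.map (Ideal.Quotient.mk J) ∧ ringKrullDim ((A ⧸ J) ⧸ q) = n := by
  classical
  let J := RingHom.ker (algebraMap A (Localization.AtPrime p))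
  have hker : ∀ a, a ∈ J ↔ ∃ t : p.primeCompl, (t : A) * a = 0 := fun a =>
    (IsLocalization.map_eq_zero_iff p.primeCompl (Localization.AtPrime p) a)
  have hJq : ∀ q : Ideal A, q.IsPrime → q ≤ p → J ≤ q := fun q hq hqp a ha => by
    obtain ⟨t, ht⟩ := (hker a).mp ha
    exact (hq.mem_or_mem (ht ▸ zero_mem q : (t : A) * a ∈ q)).resolve_left fun h => t.2 (hqp h)
  have hJp : J ≤ p := hJq p inferInstance le_rfl
  obtain ⟨g, hg⟩ := IsNoetherian.noetherian J
  choose t ht using fun a : (g : Set A) => (hker a).mp (hg ▸ Submodule.subset_span a.2)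
  let s : A := ∏ a, (t a : A)
  have hs : s ∉ p := fun h => by
    obtain ⟨a, -, ha⟩ := (Ideal.IsPrime.prod_mem_iff (s := Finset.univ) (p := p)).mp h
    exact (t a).2 ha
  have hsJ : ∀ a ∈ J, s * a = 0 := fun a ha => by
    rw [← hg] at ha
    induction ha using Submodule.span_induction with
    | mem x hx =>
      obtain ⟨c, hc⟩ := Finset.dvd_prod_of_mem (fun a => (t a : A)) (Finset.mem_univ ⟨x, hx⟩)
      show s * x = 0
      rw [show s = (t ⟨x, hx⟩ : A) * c from hc, mul_right_comm, ht ⟨x, hx⟩, zero_mul]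
    | zero => rw [mul_zero]
    | add x y _ _ hx hy => rw [mul_add, hx, hy, add_zero]
    | smul c x _ hx => rw [smul_eq_mul, mul_left_comm, hx, mul_zero]
  haveI : Nontrivial (A ⧸ J) := Ideal.Quotient.nontrivial_iff.mpr fun h => by
    exact Ideal.IsPrime.ne_top ‹_› (top_le_iff.mp (h ▸ hJp))
  haveI hloc : IsLocalRing (A ⧸ J) := IsLocalRing.of_surjective' _ Ideal.Quotient.mk_surjective
  let π := Ideal.Quotient.mk J
  -- minimal primes of the quotient
  have hmin : ∀ Q ∈ minimalPrimes (A ⧸ J), Q.comap π ≤ p ∧ Q.comap π ∈ minimalPrimes A := by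
    intro Q hQ
    haveI : Q.IsPrime := hQ.1.1
    have hle : Q.comap π ≤ p := fun x hx => by
      by_contra hxp
      have hreg : π x ∈ nonZeroDivisors (A ⧸ J) := mem_nonZeroDivisors_iff_right.mpr fun z hz => by
        obtain ⟨z, rfl⟩ := Ideal.Quotient.mk_surjective z
        rw [← map_mul, Ideal.Quotient.eq_zero_iff_mem] at hz
        obtain ⟨t, ht⟩ := (hker _).mp hz
        refine Ideal.Quotient.eq_zero_iff_mem.mpr ((hker z).mpr ⟨t * ⟨x, hxp⟩, ?_⟩)
        show (t : A) * x * z = 0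
        rw [mul_assoc, mul_comm x z]
        exact ht
      exact Set.disjoint_left.mp (Ideal.disjoint_nonZeroDivisors_of_mem_minimalPrimes hQ) hx hreg
    refine ⟨hle, ⟨Ideal.IsPrime.comap π, bot_le⟩, fun q hq hqQ => ?_⟩
    have h1 : J ≤ q := hJq q hq.1 (hqQ.trans hle)
    haveI := hq.1
    have h2 : q.map π ≤ Q := Ideal.map_le_iff_le_comap.mpr hqQ
    haveI : (q.map π).IsPrime :=
      Ideal.map_isPrime_of_surjective Ideal.Quotient.mk_surjective (by rw [Ideal.mk_ker]; exact h1)
    intro x hx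
    exact (Ideal.mem_quotient_iff_mem h1).mp (hQ.2 ⟨inferInstance, bot_le⟩ h2 hx)
  have hdimle : ringKrullDim (A ⧸ J) ≤ n := by
    refine SMT.ringKrullDim_le_of_cover fun P hP => ?_
    haveI := hP
    obtain ⟨Q, hQ, hQP⟩ := Ideal.exists_minimalPrimes_le (show (⊥ : Ideal (A ⧸ J)) ≤ P from bot_le)
    refine ⟨Q, hQP, ?_⟩
    obtain ⟨h1, h2⟩ := hmin Q hQ
    refine le_trans (le_of_eq ?_) (hn₁ _ h2 h1)
    exact (ringKrullDim_eq_of_ringEquiv (RingHom.quotientKerEquivOfSurjective
      (f := (Ideal.Quotient.mk Q).comp π) (Ideal.Quotient.mk_surjective.comp Ideal.Quotient.mk_surjective))).symm.trans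
        (ringKrullDim_eq_of_ringEquiv (Ideal.quotEquivOfEq (by rw [← RingHom.comap_ker, Ideal.mk_ker])))
  obtain ⟨q, hq, hqp, hqn⟩ := hn₂
  haveI := hq.1.1
  have hJq' := hJq q hq.1.1 hqp
  let Q := q.map π
  haveI : Q.IsPrime := Ideal.map_isPrime_of_surjective Ideal.Quotient.mk_surjective (by rw [Ideal.mk_ker]; exact hJq')
  have hQmin : Q ∈ minimalPrimes (A ⧸ J) := by
    refine ⟨⟨inferInstance, bot_le⟩, fun R hR hRQ => ?_⟩
    haveI := hR.1
    refine Ideal.map_le_iff_le_comap.mpr (hq.2 ⟨Ideal.IsPrime.comap π, bot_le⟩ fun x hx => ?_)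
    exact (Ideal.mem_quotient_iff_mem hJq').mp (hRQ hx)
  have hQn : ringKrullDim ((A ⧸ J) ⧸ Q) = n := by
    rw [← hqn]
    exact ringKrullDim_eq_of_ringEquiv (DoubleQuot.quotQuotEquivQuotOfLE hJq')
  refine ⟨J, hJp, fun a => Iff.rfl, ⟨s, hs, hsJ⟩, fun q hq hqp => hJq q hq.1.1 hqp, hloc,
    le_antisymm hdimle ?_, Q, hQmin, Ideal.map_mono hqp, hQn⟩
  rw [← hQn]
  exact ringKrullDim_quotient_le Q

variable (k A : Type u) [Field k] [CommRing A] [IsLocalRing A] [IsNoetherianRing A] [Algebra k A]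
  [IsAdicComplete (maximalIdeal A) A] [Module.Finite k (ResidueField A)] (J : Ideal A) [IsLocalRing (A ⧸ J)]

omit [IsNoetherianRing A] [IsAdicComplete (maximalIdeal A) A] in
theorem finite_residueField_quot : Module.Finite k (ResidueField (A ⧸ J)) := by
  haveI : IsLocalHom (Ideal.Quotient.mk J) := IsLocalHom.of_surjective _ Ideal.Quotient.mk_surjective
  let fr : ResidueField A →ₐ[k] ResidueField (A ⧸ J) :=
    { ResidueField.map (Ideal.Quotient.mk J) with
      commutes' := fun c => by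
        rw [IsScalarTower.algebraMap_apply k A (ResidueField A),
          IsScalarTower.algebraMap_apply k (A ⧸ J) (ResidueField (A ⧸ J))]
        rfl }
  refine Module.Finite.of_surjective fr.toLinearMap fun y => ?_
  obtain ⟨b, rfl⟩ := residue_surjective y
  obtain ⟨a, rfl⟩ := Ideal.Quotient.mk_surjective b
  exact ⟨residue A a, rfl⟩

variable (p : Ideal A) [p.IsPrime] [(p.map (Ideal.Quotient.mk J)).IsPrime]
  (hJp : J ≤ p) (n : ℕ)

include hJp in
/-- Generators of the completed differentials at a prime pass to the quotient and back. -/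
theorem omega_generators_iff (s : A) (hs : s ∉ p) (hsJ : ∀ a ∈ J, s * a = 0) :
    (∃ ω : Fin n → EGA418Dim.OmegaHat k A, ∀ v, ∃ t ∈ p.primeCompl, t • v ∈ Submodule.span A (Set.range ω)) ↔
    ∃ ω : Fin n → EGA418Dim.OmegaHat k (A ⧸ J), ∀ v, ∃ t ∈ (p.map (Ideal.Quotient.mk J)).primeCompl,
      t • v ∈ Submodule.span (A ⧸ J) (Set.range ω) := by
  classical
  let A1 := A ⧸ J
  let π := Ideal.Quotient.mk J
  haveI : IsAdicComplete (maximalIdeal A1) A1 := EGA41FS.isAdicComplete_quotient J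
  haveI := finite_residueField_quot k A J
  haveI : Module.Finite A1 (EGA418Dim.OmegaHat k A1) := EGA418Dim.finite_omegaHat k A1
  haveI : Module.Finite A (EGA418Dim.OmegaHat k A) := EGA418Dim.finite_omegaHat k A
  haveI : Module.Finite A (EGA418Dim.OmegaHat k A1) := Module.Finite.trans A1 _
  let W := EGA418Dim.OmegaHat k A1
  obtain ⟨φ, hφ⟩ := EGA418Dim.exists_lift k A (M := W) ((EGA418Dim.dHat k A1).compAlgebraMap A)
  have hφd : ∀ a, φ (EGA418Dim.dHat k A a) = EGA418Dim.dHat k A1 (π a) := hφ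
  have hφs : Function.Surjective φ := fun w => by
    have hw : w ∈ Submodule.span A1 (Set.range (EGA418Dim.dHat k A1)) := EGA418Dim.span_dHat k A1 ▸ Submodule.mem_top
    induction hw using Submodule.span_induction with
    | mem x hx =>
      obtain ⟨b, rfl⟩ := hx
      obtain ⟨a, rfl⟩ := Ideal.Quotient.mk_surjective b
      exact ⟨_, hφd a⟩
    | zero => exact ⟨0, map_zero φ⟩
    | add x y _ _ hx hy => obtain ⟨x, rfl⟩ := hx; obtain ⟨y, rfl⟩ := hy; exact ⟨x + y, map_add φ x y⟩
    | smul c x _ hx =>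
      obtain ⟨x, rfl⟩ := hx
      obtain ⟨a, rfl⟩ := Ideal.Quotient.mk_surjective c
      exact ⟨a • x, by rw [map_smul]; exact (algebraMap_smul A1 a (φ x)).symm⟩
  -- a partial inverse
  let N := EGA418Dim.OmegaHat k A
  let M := N ⧸ (J • ⊤ : Submodule A N)
  let mkM : N →ₗ[A] M := Submodule.mkQ _
  have hkill : ∀ a ∈ J, s • s • EGA418Dim.dHat k A a = 0 := fun a ha => by
    have h := congrArg (EGA418Dim.dHat k A) (hsJ a ha)
    rw [Derivation.leibniz, map_zero] at h
    have h2 := congrArg (s • ·) h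
    simp only [smul_add, smul_zero, smul_smul] at h2
    rw [hsJ a ha, zero_smul, add_zero] at h2
    rw [smul_smul]
    exact h2
  let f : A → M := fun a => mkM (s • s • EGA418Dim.dHat k A a)
  have hf : ∀ a b, a - b ∈ J → f a = f b := fun a b hab => by
    show mkM _ = mkM _
    rw [← sub_eq_zero, ← map_sub, ← smul_sub, ← smul_sub, ← map_sub, hkill _ hab, map_zero]
  let g : A1 → M := fun x => Quotient.liftOn' x f fun a b hab => hf a b (Submodule.quotientRel_def J |>.mp hab)
  have hg : ∀ a, g (π a) = f a := fun a => rfl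
  haveI : Module.Finite A1 M := Module.Finite.of_restrictScalars_finite A A1 M
  let δ : Derivation k A1 M := Derivation.mk'
    { toFun := g
      map_add' := fun x y => by
        obtain ⟨a, rfl⟩ := Ideal.Quotient.mk_surjective x
        obtain ⟨b, rfl⟩ := Ideal.Quotient.mk_surjective y
        rw [← map_add, hg, hg, hg]
        show mkM _ = mkM _ + mkM _
        rw [map_add (EGA418Dim.dHat k A), smul_add, smul_add, map_add]
      map_smul' := fun c x => by
        obtain ⟨a, rfl⟩ := Ideal.Quotient.mk_surjective x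
        rw [RingHom.id_apply, show c • π a = π (c • a) from rfl, hg, hg]
        show mkM _ = c • mkM _
        rw [Derivation.map_smul, smul_comm s c, smul_comm s c, LinearMap.map_smul_of_tower] }
    fun x y => by
      obtain ⟨a, rfl⟩ := Ideal.Quotient.mk_surjective x
      obtain ⟨b, rfl⟩ := Ideal.Quotient.mk_surjective y
      show g (π a * π b) = π a • g (π b) + π b • g (π a)
      rw [← map_mul, hg, hg, hg]
      show mkM _ = π a • mkM _ + π b • mkM _
      rw [Derivation.leibniz, smul_add, smul_add, map_add, smul_comm s a, smul_comm s a, smul_comm s b, smul_comm s b,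
        map_smul, map_smul]
      rfl
  obtain ⟨ψ, hψ⟩ := EGA418Dim.exists_lift k A1 (M := M) δ
  have hψφ : ∀ v, ψ (φ v) = mkM (s • s • v) := fun v => by
    have h : (ψ.restrictScalars A) ∘ₗ φ = mkM ∘ₗ (LinearMap.lsmul A N (s * s)) :=
      EGA418Dim.hom_ext k A fun a => by
        show ψ (φ (EGA418Dim.dHat k A a)) = mkM ((s * s) • EGA418Dim.dHat k A a)
        rw [hφd, hψ, ← smul_smul]
        rfl
    have := LinearMap.congr_fun h v
    rw [smul_smul]
    exact this
  have hJM : ∀ z ∈ (J • ⊤ : Submodule A N), s • z = 0 := fun z hz => by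
    refine Submodule.smul_induction_on hz (fun a ha v _ => ?_) fun x y hx hy => ?_
    · rw [smul_smul, hsJ a ha, zero_smul]
    · rw [smul_add, hx, hy, add_zero]
  have hmem : ∀ a : A, a ∈ p.primeCompl ↔ π a ∈ (p.map π).primeCompl := fun a =>
    (not_congr (Ideal.mem_quotient_iff_mem hJp)).symm
  constructor
  · rintro ⟨ω, hω⟩
    refine ⟨fun i => φ (ω i), fun w => ?_⟩
    obtain ⟨v, rfl⟩ := hφs w
    obtain ⟨t, ht, htv⟩ := hω v
    refine ⟨π t, (hmem t).mp ht, ?_⟩
    obtain ⟨c, hc⟩ := (Submodule.mem_span_range_iff_exists_fun A).mp htv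
    refine (Submodule.mem_span_range_iff_exists_fun A1).mpr ⟨fun i => π (c i), ?_⟩
    have h1 := congrArg φ hc
    simp only [map_sum, map_smul] at h1
    show ∑ i, π (c i) • φ (ω i) = π t • φ v
    rw [show π t • φ v = t • φ v from algebraMap_smul A1 t (φ v), ← h1]
    exact Finset.sum_congr rfl fun i _ => algebraMap_smul A1 (c i) _
  · rintro ⟨ω1, hω1⟩
    choose ω hω using fun i => hφs (ω1 i)
    refine ⟨ω, fun v => ?_⟩
    obtain ⟨t1, ht1, htv⟩ := hω1 (φ v)
    obtain ⟨t, rfl⟩ := Ideal.Quotient.mk_surjective t1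
    obtain ⟨c1, hc⟩ := (Submodule.mem_span_range_iff_exists_fun A1).mp htv
    choose c hc1 using fun i => Ideal.Quotient.mk_surjective (c1 i)
    have h1 : φ (t • v - ∑ i, c i • ω i) = 0 := by
      rw [map_sub, map_smul, map_sum, sub_eq_zero]
      refine ((algebraMap_smul A1 t (φ v)).symm.trans hc.symm).trans (Finset.sum_congr rfl fun i _ => ?_)
      rw [map_smul, hω, ← hc1]
      exact algebraMap_smul A1 (c i) _
    have h2 := hψφ (t • v - ∑ i, c i • ω i)
    rw [h1, map_zero] at h2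
    have h3 := hJM _ ((Submodule.Quotient.mk_eq_zero _).mp h2.symm)
    refine ⟨s * s * s * t, mul_mem (mul_mem (mul_mem hs hs) hs) ((hmem t).mpr ht1), ?_⟩
    have h4 : (s * s * s * t) • v = (s * s * s) • ∑ i, c i • ω i := by
      rw [← sub_eq_zero, mul_smul (s * s * s) t, ← smul_sub, mul_smul, mul_smul, smul_comm]
      simpa [smul_smul, mul_assoc, mul_comm, mul_left_comm] using h3
    rw [h4]
    exact Submodule.smul_mem _ _ (sum_mem fun i _ => Submodule.smul_mem _ _ (Submodule.subset_span ⟨i, rfl⟩))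

end Groth.Agent.EGA418Base
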