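/-
Finite algebras over power series: semilocal, with complete local rings.
-/
import Mathlib
import Groth.Agent.EGA418Base.Model
import Groth.Agent.EGA418Base.Perfect
import Groth.Agent.EGA418Base.Compare
import Groth.Agent.SmLocalST.EtReg
import Groth.Agent.EGA41FS.FlatLift

set_option autoImplicit false
universe u

namespace Groth.Agent.EGA418Base

open IsLocalRing TensorProduct

/-- A local ring finite over power series is complete. -/
theorem isAdicComplete_of_finite_local (k : Type u) [Field k] (r : ℕ) (C : Type u) [CommRing C] [IsLocalRing C]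
    [Algebra (MvPowerSeries (Fin r) k) C] [Module.Finite (MvPowerSeries (Fin r) k) C] :
    IsAdicComplete (maximalIdeal C) C := by
  let P := MvPowerSeries (Fin r) k
  haveI := Cohen.isRegularLocalRing_mvPowerSeries k r
  haveI : IsAdicComplete (maximalIdeal P) P := ArtObs.isAdicComplete_ps k r
  haveI : IsNoetherianRing C := IsNoetherianRing.of_finite P C
  haveI : Algebra.IsIntegral P C := Algebra.IsIntegral.of_finite P C
  obtain ⟨c, hc0, hc⟩ := exists_pow_le_span k r C
  haveI : IsAdicComplete (maximalIdeal P) C := AdicLim.isAdicComplete_of_finite _ C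
  haveI : IsAdicComplete ((maximalIdeal P).map (algebraMap P C)) C :=
    (IsAdicComplete.map_algebraMap_iff _ _).2 inferInstance
  refine isAdicComplete_of_pow_le (I := (maximalIdeal P).map (algebraMap P C)) hc0 hc (Ideal.map_le_iff_le_comap.mpr ?_)
  rw [IsLocalRing.eq_maximalIdeal (Ideal.isMaximal_comap_of_isIntegral_of_isMaximal (R := P) (maximalIdeal C))]

/-- Localisation of a finite algebra over a henselian ring at a maximal ideal is a quotient. -/
theorem surjective_algebraMap_atPrime (R : Type u) [CommRing R] [HenselianLocalRing R] (S : Type u) [CommRing S]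
    [Algebra R S] [Module.Finite R S] :
    Finite (MaximalSpectrum S) ∧ ∀ (M : Ideal S) [M.IsMaximal],
      Function.Surjective (algebraMap S (Localization.AtPrime M)) := by
  classical
  obtain ⟨ι, _, e, he, hloc⟩ := Hensel.exists_pi_local R S
  have key : ∀ M : Ideal S, M.IsMaximal → ∃ i, e i ∉ M ∧ 1 - e i ∈ M ∧
      M.map (Ideal.Quotient.mk (Ideal.span {1 - e i})) = (@maximalIdeal _ _ (hloc i)) := by
    intro M hM
    obtain ⟨i, hi⟩ : ∃ i, e i ∉ M := by
      by_contra hall
      push Not at hall
      exact hM.ne_top ((Ideal.eq_top_iff_one M).mpr (he.complete ▸ sum_mem fun i _ => hall i))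
    have h1 : 1 - e i ∈ M := (hM.isPrime.mem_or_mem (show e i * (1 - e i) ∈ M by
      rw [mul_sub, mul_one, (he.idem i).eq, sub_self]; exact zero_mem M)).resolve_left hi
    refine ⟨i, hi, h1, ?_⟩
    haveI := hloc i
    have hle : Ideal.span {1 - e i} ≤ M := (Ideal.span_singleton_le_iff_mem M).mpr h1
    refine IsLocalRing.eq_maximalIdeal (Ideal.map_eq_top_or_isMaximal_of_surjective _ Ideal.Quotient.mk_surjective hM
      |>.resolve_left fun htop => hM.ne_top ?_)
    exact (Ideal.eq_top_iff_one M).mpr ((Ideal.mem_quotient_iff_mem hle).mp (htop ▸ Submodule.mem_top : (1 : S ⧸ Ideal.span {1 - e i}) ∈ _))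
  refine ⟨?_, fun M hM => ?_⟩
  · choose i hi h1 hmax using fun M : MaximalSpectrum S => key M.asIdeal M.isMaximal
    refine Finite.of_injective i fun M M' h => MaximalSpectrum.ext ?_
    have h2 := hmax M
    have h3 := hmax M'
    rw [h] at h2
    have hle : Ideal.span {1 - e (i M')} ≤ M.asIdeal := (Ideal.span_singleton_le_iff_mem _).mpr (h ▸ h1 M)
    have hle' : Ideal.span {1 - e (i M')} ≤ M'.asIdeal := (Ideal.span_singleton_le_iff_mem _).mpr (h1 M')
    refine Ideal.ext fun x => ?_
    rw [← Ideal.mem_quotient_iff_mem hle, h2, ← h3, Ideal.mem_quotient_iff_mem hle']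
  · obtain ⟨i, hi, h1, hmax⟩ := key M hM
    haveI := hloc i
    have hle : Ideal.span {1 - e i} ≤ M := (Ideal.span_singleton_le_iff_mem M).mpr h1
    intro z
    obtain ⟨a, s, rfl⟩ := IsLocalization.exists_mk'_eq M.primeCompl z
    have hu : IsUnit (Ideal.Quotient.mk (Ideal.span {1 - e i}) (s : S)) := by
      by_contra h
      rw [← mem_nonunits_iff, ← mem_maximalIdeal, ← hmax, Ideal.mem_quotient_iff_mem hle] at h
      exact s.2 h
    obtain ⟨v, hv⟩ := hu.exists_left_inv
    obtain ⟨v, rfl⟩ := Ideal.Quotient.mk_surjective v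
    rw [← map_mul, ← map_one (Ideal.Quotient.mk (Ideal.span {1 - e i})), Ideal.Quotient.eq,
      Ideal.mem_span_singleton] at hv
    obtain ⟨w, hw⟩ := hv
    let φ := algebraMap S (Localization.AtPrime M)
    have h0 : φ (1 - e i) = 0 := by
      have hu : IsUnit (φ (e i)) := IsLocalization.map_units (Localization.AtPrime M) (⟨e i, hi⟩ : M.primeCompl)
      refine hu.mul_right_eq_zero.mp ?_
      rw [← map_mul, mul_sub, mul_one, (he.idem i).eq, sub_self, map_zero]
    have h1' : φ v * φ s = 1 := by
      rw [← sub_eq_zero, ← map_mul, ← map_one φ, ← map_sub, hw, map_mul, h0, zero_mul]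
    refine ⟨v * a, ((IsLocalization.eq_mk'_iff_mul_eq).mpr ?_)⟩
    show φ (v * a) * φ s = φ a
    rw [map_mul, mul_right_comm, h1', one_mul]

/-- A finite algebra over power series, flat over a complete local ring, at a maximal ideal. -/
theorem atPrime_of_flat (k' : Type u) [Field k'] (r : ℕ) (A X : Type u) [CommRing A] [IsLocalRing A] [CommRing X]
    [Algebra A X] [Algebra (MvPowerSeries (Fin r) k') X] [Module.Finite (MvPowerSeries (Fin r) k') X]
    [IsAdicComplete ((maximalIdeal A).map (algebraMap A X)) X] [Module.Flat A X] (hd : ringKrullDim A = r)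
    (M : Ideal X) [M.IsMaximal] :
    IsAdicComplete (maximalIdeal (Localization.AtPrime M)) (Localization.AtPrime M) ∧
      Module.FaithfullyFlat A (Localization.AtPrime M) ∧
      ringKrullDim (Localization.AtPrime M) = ringKrullDim A := by
  let P' := MvPowerSeries (Fin r) k'
  let T := Localization.AtPrime M
  haveI := Cohen.isRegularLocalRing_mvPowerSeries k' r
  haveI : IsAdicComplete (maximalIdeal P') P' := ArtObs.isAdicComplete_ps k' r
  haveI : HenselianLocalRing P' := (Hensel.henselianLocalRing_iff P').mpr inferInstance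
  have hsurj := (surjective_algebraMap_atPrime P' X).2 M
  haveI : Module.Finite P' T := Module.Finite.of_surjective (IsScalarTower.toAlgHom P' X T).toLinearMap hsurj
  haveI : Module.Flat A T := Module.Flat.trans A X T
  haveI : IsLocalHom (algebraMap A T) := ((IsLocalRing.local_hom_TFAE (algebraMap A T)).out 0 3).mpr fun a ha => by
    show algebraMap A T a ∈ maximalIdeal T
    rw [IsScalarTower.algebraMap_apply A X T, IsLocalization.AtPrime.to_map_mem_maximal_iff T M]
    have hj : (maximalIdeal A).map (algebraMap A X) ≤ M :=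
      (IsAdicComplete.le_jacobson_bot _).trans (sInf_le ⟨bot_le, ‹M.IsMaximal›⟩)
    exact hj (Ideal.mem_map_of_mem _ ha)
  refine ⟨isAdicComplete_of_finite_local k' r T, Module.FaithfullyFlat.of_flat_of_isLocalHom,
    le_antisymm ?_ (SmLocalST.ringKrullDim_le_of_flat_local A T)⟩
  rw [hd]
  exact dim_le_of_finite k' r T

variable (k k' : Type u) [Field k] [Field k'] [Algebra k k'] (r : ℕ) (A : Type u) [CommRing A] [IsLocalRing A]
  [Algebra (MvPowerSeries (Fin r) k) A]

/-- The model is flat over the ring. -/
theorem flat_model : Module.Flat A (Model k k' r A) := by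
  let P := MvPowerSeries (Fin r) k
  let P' := MvPowerSeries (Fin r) k'
  haveI := Cohen.isRegularLocalRing_mvPowerSeries k' r
  haveI := Cohen.isRegularLocalRing_mvPowerSeries k r
  haveI : Module.Flat P P' := RingHom.flat_algebraMap_iff.mp
    (EGA41FS.flat_mvPowerSeries_map (algebraMap k k') (RingHom.flat_algebraMap_iff.mpr inferInstance) r)
  exact Module.Flat.baseChange P A P'

end Groth.Agent.EGA418Base
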